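import Cfsg.Agent.Lib.Invol.AbelianCent.Two
import Cfsg.Agent.Lib.Char.FeitZassenhaus.Main

/-!
# Abelian involution centralizers with trivial intersection are elementary abelian

The action on the cosets of `N(T)` makes the group a Zassenhaus group with abelian kernel `A`,
and Feit's bound gives `|A| ≤ 2 |T₂| - 1`, where `T₂` is the set of involutions of `T` with the
identity; hence `A` has exponent two.
-/

set_option autoImplicit false
set_option linter.unusedSectionVars false

namespace CfsgLib.AbCent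

open Subgroup MulAction CfsgLib.Invol

universe u

variable {G : Type u} [Group G] [Finite G] {T : Sylow 2 G} (h : Data T)

local notation "N" => normalizer ((T : Subgroup G) : Set G)
local notation "A" => centralizer ((T : Subgroup G) : Set G)
local notation "x₀" => ((1 : G) : G ⧸ normalizer ((T : Subgroup G) : Set G))

variable (hTI : h.IsTrivInter)

include h hTI

theorem Data.card_eq {P : G ⧸ N} (hP : P ≠ x₀) : Nat.card A + 1 = Nat.card (G ⧸ N) := by
  classical
  haveI := Fintype.ofFinite (G ⧸ N)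
  have hne : ∀ a : A, (a : G) • P ≠ x₀ := fun a e => hP (smul_left_cancel (a : G)
    (e.trans (fixed_one_iff.2 (centralizer_le_N a.2)).symm))
  have hb : Function.Bijective (fun a : A => (⟨(a : G) • P, hne a⟩ : {Q : G ⧸ N // Q ≠ x₀})) := by
    refine ⟨fun a b e => ?_, fun Q => ?_⟩
    · have e' : (a : G) • P = (b : G) • P := congrArg Subtype.val e
      have := h.semireg hTI (mul_mem (inv_mem b.2) a.2) hP
        (by rw [mul_smul, e', inv_smul_smul])
      exact Subtype.ext (inv_mul_eq_one.1 this).symm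
    · obtain ⟨a, ha, e⟩ := h.regular hTI hP Q.2
      exact ⟨⟨a, ha⟩, Subtype.ext e⟩
  rw [Nat.card_eq_of_bijective _ hb, Nat.card_eq_fintype_card, Nat.card_eq_fintype_card,
    Fintype.card_subtype_compl, Fintype.card_subtype_eq]
  have : 0 < Fintype.card (G ⧸ N) := Fintype.card_pos
  omega

theorem Data.three_points {P Q : G ⧸ N} (hP : P ≠ x₀) (hQ : Q ≠ x₀) (hPQ : P ≠ Q) {g : G}
    (h0 : g • x₀ = x₀) (h1 : g • P = P) (h2 : g • Q = Q) : g = 1 := by
  by_contra hg
  rcases h.fixed_two hTI (fixed_one_iff.1 h0) hg hP h1 h2 with e | e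
  exacts [hQ e, hPQ e.symm]

theorem Data.exists_pair {P Q : G ⧸ N} (hPQ : P ≠ Q) {R : G ⧸ N} (hR : R ≠ x₀) :
    ∃ g : G, g • P = x₀ ∧ g • Q = R := by
  obtain ⟨g, hg⟩ := MulAction.exists_smul_eq G P x₀
  have hne : g • Q ≠ x₀ := fun e => hPQ (smul_left_cancel g (hg.trans e.symm))
  obtain ⟨a, ha, e⟩ := h.regular hTI hne hR
  exact ⟨a * g, by rw [mul_smul, hg, fixed_one_iff.2 (centralizer_le_N ha)], by rw [mul_smul, e]⟩

theorem Data.four_le_card : 4 ≤ Nat.card A := by
  classical
  haveI : Fact (Nat.Prime 2) := ⟨Nat.prime_two⟩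
  obtain ⟨s, hs, hso⟩ := h.exists_invol
  obtain ⟨t, ht, hto, hts⟩ := h.exists_second hs hso
  have hst : s * t = t * s := h.commT s hs t ht
  let f : Fin 4 → A := ![⟨1, one_mem _⟩, ⟨s, T_le_A h.commT hs⟩, ⟨t, T_le_A h.commT ht⟩,
    ⟨s * t, mul_mem (T_le_A h.commT hs) (T_le_A h.commT ht)⟩]
  have hs1 : s ≠ 1 := invol_ne_one hso
  have ht1 : t ≠ 1 := invol_ne_one hto
  have hst1 : s * t ≠ 1 := fun e => hts (by
    have := eq_inv_of_mul_eq_one_right e
    rwa [invol_inv hso] at this)
  have hsts : s * t ≠ s := fun e => ht1 (mul_eq_left.1 e)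
  have hstt : s * t ≠ t := fun e => hs1 (mul_eq_right.1 e)
  have hf : Function.Injective f := by
    intro i j e
    have e' : (f i : G) = f j := congrArg Subtype.val e
    fin_cases i <;> fin_cases j <;>
      simp_all [f, eq_comm]
  simpa using Nat.card_le_card_of_injective f hf

theorem Data.isZassenhaus : Cfsg.IsZassenhausGroup G (G ⧸ N) := by
  obtain ⟨P, hP⟩ := h.exists_other
  have hfaith : FaithfulSMul G (G ⧸ N) := by
    constructor
    intro g g' hgg
    classical
    obtain ⟨Q, hQ, hQP⟩ : ∃ Q, Q ≠ x₀ ∧ Q ≠ P := by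
      have h4 := h.four_le_card hTI
      have hc := h.card_eq hTI hP
      haveI := Fintype.ofFinite (G ⧸ N)
      rw [Nat.card_eq_fintype_card (α := G ⧸ N)] at hc
      by_contra hno
      push Not at hno
      have : (Finset.univ : Finset (G ⧸ N)).card ≤ ({x₀, P} : Finset (G ⧸ N)).card :=
        Finset.card_le_card fun Q _ => by
          simp only [Finset.mem_insert, Finset.mem_singleton]
          by_cases e : Q = x₀
          exacts [Or.inl e, Or.inr (hno Q e)]
      have := this.trans Finset.card_le_two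
      rw [Finset.card_univ] at this
      omega
    have hfix : ∀ R : G ⧸ N, (g'⁻¹ * g) • R = R := fun R => by rw [mul_smul, hgg R, inv_smul_smul]
    exact (inv_mul_eq_one.1 (h.three_points hTI hP hQ hQP.symm (hfix _) (hfix _) (hfix _))).symm
  refine ⟨hfaith, ?_, ?_, ?_, ?_⟩
  · rw [MulAction.is_two_pretransitive_iff]
    intro a b c d hab hcd
    obtain ⟨g, hg1, hg2⟩ := h.exists_pair hTI hab hP
    obtain ⟨k, hk1, hk2⟩ := h.exists_pair hTI hcd hP
    exact ⟨k⁻¹ * g, by rw [mul_smul, hg1, ← hk1, inv_smul_smul],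
      by rw [mul_smul, hg2, ← hk2, inv_smul_smul]⟩
  · intro g a b c hab hbc hac ha hb hc
    obtain ⟨k, hk1, hk2⟩ := h.exists_pair hTI hab hP
    have hcP : k • c ≠ x₀ := fun e => hac (smul_left_cancel k (hk1.trans e.symm))
    have hcQ : P ≠ k • c := fun e => hbc (smul_left_cancel k (hk2.trans e))
    have := h.three_points hTI hP hcP hcQ (g := k * g * k⁻¹)
      (by rw [← hk1]; exact conj_fixes.2 ha) (by rw [← hk2]; exact conj_fixes.2 hb) (conj_fixes.2 hc)
    calc g = k⁻¹ * (k * g * k⁻¹) * k := by group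
      _ = 1 := by rw [this]; group
  · obtain ⟨d, hd, hdP, hdA⟩ := h.exists_twoPoint hP
    exact ⟨d, fun e => hdA (e ▸ one_mem _), x₀, P, hP.symm, fixed_one_iff.2 hd, hdP⟩
  · intro R hR htr
    refine ⟨x₀, fun hbot => ?_⟩
    haveI := hR
    -- `R` is regular of odd order
    have hfix : ∀ r ∈ R, r • x₀ = x₀ → r = 1 := fun r hr e => by
      have h1 : (⟨r, hr⟩ : R) = 1 :=
        (Subgroup.eq_bot_iff_forall _).1 hbot ⟨r, hr⟩ (MulAction.mem_stabilizer_iff.2 e)
      exact congrArg Subtype.val h1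
    have hRodd : ∀ r ∈ R, r ^ 2 = 1 → r = 1 := by
      intro r hr hr2
      by_contra hr1
      obtain ⟨S, hS⟩ := h.exists_fixed_point (orderOf_eq_prime hr2 hr1)
      obtain ⟨⟨k, hk⟩, hkS⟩ := htr.exists_smul_eq x₀ S
      have hkS' : k • x₀ = S := hkS
      have := hfix _ (mul_mem (mul_mem (inv_mem hk) hr) hk)
        (by rw [mul_smul, mul_smul, hkS', hS, ← hkS', inv_smul_smul])
      exact hr1 (by
        calc r = k * (k⁻¹ * r * k) * k⁻¹ := by group
          _ = 1 := by rw [this]; group)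
    have hinv : ∀ t ∈ (T : Subgroup G), orderOf t = 2 → ∀ r ∈ R, t * r * t = r⁻¹ := by
      intro t ht hto r hr
      have htt := invol_mul_self hto
      let ψ : R → R := fun r => ⟨(r : G)⁻¹ * (t * r * t⁻¹), mul_mem (inv_mem r.2) (hR.conj_mem _ r.2 t)⟩
      have hψ : Function.Injective ψ := by
        intro a b e
        have e' : (a : G)⁻¹ * (t * a * t⁻¹) = (b : G)⁻¹ * (t * b * t⁻¹) := congrArg Subtype.val e
        have hc : t * ((b : G) * (a : G)⁻¹) * t⁻¹ = (b : G) * (a : G)⁻¹ := by
          calc t * ((b : G) * (a : G)⁻¹) * t⁻¹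
              = (b : G) * ((b : G)⁻¹ * (t * b * t⁻¹)) * (t * a * t⁻¹)⁻¹ := by group
            _ = (b : G) * ((a : G)⁻¹ * (t * a * t⁻¹)) * (t * a * t⁻¹)⁻¹ := by rw [e']
            _ = (b : G) * (a : G)⁻¹ := by group
        have hfx : ((b : G) * (a : G)⁻¹) • x₀ = x₀ := by
          refine fixed_unique h.se hto ?_ (fixed_one_iff.2 (le_normalizer ht))
          have hc' : t * ((b : G) * (a : G)⁻¹) = ((b : G) * (a : G)⁻¹) * t := mul_inv_eq_iff_eq_mul.1 hc
          rw [← mul_smul, hc', mul_smul, fixed_one_iff.2 (le_normalizer ht)]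
        exact Subtype.ext (mul_inv_eq_one.1 (hfix _ (mul_mem b.2 (inv_mem a.2)) hfx)).symm
      obtain ⟨⟨k, hk⟩, hk'⟩ := (Finite.injective_iff_surjective.1 hψ) ⟨r, hr⟩
      have e : k⁻¹ * (t * k * t⁻¹) = r := congrArg Subtype.val hk'
      rw [← e, invol_inv hto]
      simp only [mul_inv_rev, invol_inv hto, inv_inv, mul_assoc, htt, mul_one]
    obtain ⟨s, hs, hso⟩ := h.exists_invol
    obtain ⟨t, ht, hto, hts⟩ := h.exists_second hs hso
    have hstN : s * t ∈ N := le_normalizer (mul_mem hs ht)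
    have hst1 : s * t ≠ 1 := fun e => hts (by
      have := eq_inv_of_mul_eq_one_right e
      rwa [invol_inv hso] at this)
    have hst2 : (s * t) * (s * t) = 1 := by
      calc (s * t) * (s * t) = s * (t * s) * t := by group
        _ = (s * s) * (t * t) := by rw [h.commT t ht s hs]; group
        _ = 1 := by rw [invol_mul_self hso, invol_mul_self hto, one_mul]
    obtain ⟨⟨r, hr⟩, hrP⟩ := htr.exists_smul_eq x₀ P
    have hrP' : r • x₀ = P := hrP
    have hcomm : s * t * r = r * (s * t) := by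
      have h1 : t * r⁻¹ * t = r := by
        rw [hinv t ht hto r⁻¹ (inv_mem hr), inv_inv]
      have h2 := hinv s hs hso r hr
      calc s * t * r = s * t * r * (t * t) := by rw [invol_mul_self hto, mul_one]
        _ = s * (t * r * t) * t := by group
        _ = s * r⁻¹ * t := by rw [hinv t ht hto r hr]
        _ = s * (s * r * s) * t := by rw [h2]
        _ = (s * s) * r * (s * t) := by group
        _ = r * (s * t) := by rw [invol_mul_self hso, one_mul]
    have hfP : (s * t) • P = P := by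
      rw [← hrP', ← mul_smul, hcomm, mul_smul, fixed_one_iff.2 hstN]
    exact hP (fixed_unique h.se (orderOf_eq_prime (by rw [sq]; exact hst2) hst1) hfP
      (fixed_one_iff.2 hstN))

/-- `A` has exponent two. -/
theorem Data.sq_eq_one : ∀ c ∈ A, c ^ 2 = 1 := by
  classical
  haveI := Fintype.ofFinite (G ⧸ N)
  obtain ⟨P, hP⟩ := h.exists_other
  obtain ⟨s, hs, hso⟩ := h.exists_invol
  set D := MulAction.stabilizer G x₀ ⊓ MulAction.stabilizer G P with hD
  have hPt : CfsgLib.Char.FeitZ.Pt G x₀ P A := by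
    refine ⟨h.isZassenhaus hTI, hP.symm, fun a ha => fixed_one_iff.2 (centralizer_le_N ha), ?_, ?_, ?_⟩
    · rw [h.card_eq hTI hP, Nat.card_eq_fintype_card]
    · intro u hu hu1 c hc
      by_contra hcx
      exact hu1 (h.semireg hTI hu hcx hc)
    · rw [← Nat.not_even_iff_odd]
      intro he
      obtain ⟨t, ⟨ht1, ht2⟩, hto⟩ := exists_invol_mem (H := D) he
      exact hP (fixed_unique h.se hto ht2 ht1)
  have hcard : Nat.card D = Nat.card {t : G // orderOf t = 2 ∧ t ∈ N} := by
    refine Nat.card_congr (Equiv.ofBijective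
      (fun d : D => (⟨d * s * (d : G)⁻¹, invol_conj hso _, fixed_one_iff.1 (by
        rw [mul_smul, mul_smul, inv_smul_eq_iff.2 d.2.1.symm, fixed_one_iff.2 (le_normalizer hs), d.2.1])⟩ :
          {t : G // orderOf t = 2 ∧ t ∈ N})) ⟨?_, ?_⟩)
    · intro a b e
      have e' : (a : G) * s * (a : G)⁻¹ = b * s * (b : G)⁻¹ := congrArg Subtype.val e
      have hA : (b : G)⁻¹ * a ∈ A := by
        rw [← h.centralizer_eq hs hso, mem_centralizer_singleton_iff]
        calc (b : G)⁻¹ * a * s = (b : G)⁻¹ * (a * s * (a : G)⁻¹) * a := by group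
          _ = (b : G)⁻¹ * (b * s * (b : G)⁻¹) * a := by rw [e']
          _ = s * ((b : G)⁻¹ * a) := by group
      have h1 := h.semireg hTI hA hP (mul_mem (inv_mem b.2) a.2).2
      exact Subtype.ext (inv_mul_eq_one.1 h1).symm
    · rintro ⟨t, hto, htN⟩
      obtain ⟨d, hd, hdP, e⟩ := h.exists_twoPoint_conj hP hs hso htN hto
      exact ⟨⟨d, fixed_one_iff.2 hd, hdP⟩, Subtype.ext e⟩
  have hb : Nat.card A - 1 ≤ 2 * Nat.card D := by
    rcases CfsgLib.Char.FeitZ.bound hPt with hb | ⟨-, ⟨u, v, huv⟩, -⟩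
    · exact hb
    · exact absurd (Subtype.ext (h.commA _ u.2 _ v.2)) huv
  -- the elements of exponent two form a subgroup of index at most two
  let E : Subgroup G :=
    { carrier := {x | x ∈ A ∧ x ^ 2 = 1}
      one_mem' := ⟨one_mem _, one_pow 2⟩
      mul_mem' := fun {a b} ha hb => ⟨mul_mem ha.1 hb.1, by
        rw [(show Commute a b from h.commA a ha.1 b hb.1).mul_pow, ha.2, hb.2, one_mul]⟩
      inv_mem' := fun {a} ha => ⟨inv_mem ha.1, by rw [inv_pow, ha.2, inv_one]⟩ }
  have hEA : E ≤ A := fun x hx => hx.1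
  have hEcard : Nat.card {t : G // orderOf t = 2 ∧ t ∈ N} + 1 = Nat.card E := by
    haveI := Fintype.ofFinite E
    have e : {t : G // orderOf t = 2 ∧ t ∈ N} ≃ {x : E // x ≠ 1} :=
      { toFun := fun t => ⟨⟨t.1, T_le_A h.commT (h.mem_T t.2.2 t.2.1), by
          rw [sq, invol_mul_self t.2.1]⟩, fun e => invol_ne_one t.2.1 (congrArg Subtype.val e)⟩
        invFun := fun x => ⟨x.1.1, orderOf_eq_prime x.1.2.2 (fun e => x.2 (Subtype.ext e)),
          centralizer_le_N x.1.2.1⟩
        left_inv := fun _ => rfl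
        right_inv := fun _ => rfl }
    rw [Nat.card_congr e, Nat.card_eq_fintype_card, Nat.card_eq_fintype_card,
      Fintype.card_subtype_compl, Fintype.card_subtype_eq]
    have : 0 < Fintype.card E := Fintype.card_pos
    omega
  obtain ⟨w, hw⟩ := Subgroup.card_dvd_of_le hEA
  have hpos : 0 < Nat.card A := Nat.card_pos
  rw [hcard] at hb
  have hw1 : w = 1 := by
    rcases w with _ | _ | w
    · omega
    · rfl
    · rw [hw] at hb
      have : Nat.card E * (w + 1 + 1) = Nat.card E * w + 2 * Nat.card E := by ring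
      omega
  have hEq : E = A := eq_of_le_of_card_ge hEA (by rw [hw, hw1, mul_one])
  intro c hc
  exact (hEq.symm ▸ hc : c ∈ E).2

end CfsgLib.AbCent
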