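import Cfsg.Agent.Lib.Invol.AbelianCent.Central
import Cfsg.Agent.Lib.Invol.AbelianCent.Elementary
import Cfsg.Agent.Lib.Classical.SL2Sylow
import Cfsg.Agent.Lib.Lie.ShortPres.SL2
import Cfsg.Agent.S1230
import Mathlib.LinearAlgebra.Matrix.SpecialLinearGroup

/-!
# Groups with abelian involution centralizers map onto `SL(2, 2^n)` with odd central kernel
-/

set_option autoImplicit false
set_option linter.unusedSectionVars false

namespace CfsgLib.AbCent

open Subgroup MulAction CfsgLib.Invol

universe u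

/-- Every element of `SL(2, F)`, in characteristic two, is a product of involutions. -/
theorem sl2_closure_invols {F : Type*} [Field F] [CharP F 2]
    (H : Subgroup (Matrix.SpecialLinearGroup (Fin 2) F))
    (hH : ∀ t : Matrix.SpecialLinearGroup (Fin 2) F, t * t = 1 → t ∈ H) : H = ⊤ := by
  refine top_unique fun g _ => ?_
  refine Matrix.SL2.transvection_induction (fun g => g ∈ H) (fun i j hij c => hH _ ?_)
    (fun _ _ => mul_mem) g
  apply Subtype.ext
  show Matrix.transvection i j c * Matrix.transvection i j c = 1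
  rw [Matrix.transvection_mul_transvection_same i j hij, CharTwo.add_self_eq_zero, Matrix.transvection_zero]

/-- Elements squaring to one lift through a surjection with kernel of odd order. -/
theorem exists_lift_invol {X Y : Type*} [Group X] [Finite X] [Group Y] (φ : X →* Y)
    (hsur : Function.Surjective φ) (hodd : Odd (Nat.card φ.ker)) {t : Y} (ht : t * t = 1) :
    ∃ g : X, g * g = 1 ∧ φ g = t := by
  obtain ⟨g, rfl⟩ := hsur t
  have hg2 : g * g ∈ φ.ker := by rw [MonoidHom.mem_ker, map_mul, ht]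
  refine ⟨g ^ Nat.card φ.ker, ?_, ?_⟩
  · have : (g * g) ^ Nat.card φ.ker = 1 := congrArg Subtype.val (pow_card_eq_one' (x := (⟨g * g, hg2⟩ : φ.ker)))
    rw [← (Commute.refl g).mul_pow, this]
  · obtain ⟨k, hk⟩ := hodd
    rw [hk, map_pow, pow_succ, pow_mul, sq, ht, one_pow, one_mul]

/-- The statement proved by induction. -/
def Target {G : Type u} [Group G] (T : Sylow 2 G) : Prop :=
  (∀ β ∈ centralizer ((T : Subgroup G) : Set G), Odd (orderOf β) → β ∈ center G) ∧
  ∃ (F : Type) (_ : Field F) (_ : Fintype F) (_ : CharP F 2)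
    (φ : G →* Matrix.SpecialLinearGroup (Fin 2) F),
    Function.Surjective φ ∧ φ.ker ≤ center G ∧ Odd (Nat.card φ.ker)

variable {G : Type u} [Group G] [Finite G] {T : Sylow 2 G} (h : Data T)

local notation "N" => normalizer ((T : Subgroup G) : Set G)
local notation "A" => centralizer ((T : Subgroup G) : Set G)
local notation "x₀" => ((1 : G) : G ⧸ normalizer ((T : Subgroup G) : Set G))

include h

/-- The data on the centralizer of an element centralizing the involutions of two points. -/
theorem Data.sub {a : G} (ha : a ∈ A) {P : G ⧸ N} (hP : P ≠ x₀) (hcen : h.Cen a P) :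
    ∃ hT : (T : Subgroup G) ≤ centralizer ({a} : Set G), Data (T.subtype hT) := by
  have hTK : (T : Subgroup G) ≤ centralizer ({a} : Set G) := fun t ht =>
    mem_centralizer_singleton_iff.2 (mem_centralizer_iff.1 ha t ht)
  refine ⟨hTK, ⟨?_, ?_, ?_⟩⟩
  · intro hcyc
    apply h.notCyclic
    let e := Subgroup.subgroupOfEquivOfLe hTK
    haveI : IsCyclic ((T : Subgroup G).subgroupOf (centralizer ({a} : Set G))) := hcyc
    exact isCyclic_of_surjective e.toMonoidHom e.surjective
  · intro hn
    obtain ⟨v, hv, hvx⟩ := h.exists_swap_to hP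
    have hva : v ∈ centralizer ({a} : Set G) :=
      mem_centralizer_singleton_iff.2 (h.swap_comm ha hP hcen hvx).eq
    have hv' : v ∈ N := by
      rw [mem_normalizer_iff]
      intro t
      have hn' : ((T : Subgroup G).subgroupOf (centralizer ({a} : Set G))).Normal := hn
      constructor
      · intro ht
        exact hn'.conj_mem ⟨t, hTK ht⟩ ht ⟨v, hva⟩
      · intro ht
        have hvi : v⁻¹ = v := invol_inv hv
        have h1 := hn'.conj_mem ⟨_, hTK ht⟩ ht ⟨v, hva⟩
        rw [mem_subgroupOf] at h1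
        simp only [Subgroup.coe_mul, Subgroup.coe_inv, hvi] at h1
        rwa [show v * (v * t * v) * v = (v * v) * t * (v * v) by group, invol_mul_self hv,
          one_mul, mul_one] at h1
    rw [← fixed_one_iff (H := N), hvx] at hv'
    exact hP hv'
  · intro t ht
    rw [← Subgroup.orderOf_coe] at ht
    refine ⟨⟨fun x y => Subtype.ext (Subtype.ext ?_)⟩⟩
    simp only [Subgroup.coe_mul]
    exact congrArg Subtype.val ((h.comm _ ht).is_comm.comm
      ⟨_, mem_centralizer_singleton_iff.2 (congrArg Subtype.val (mem_centralizer_singleton_iff.1 x.2))⟩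
      ⟨_, mem_centralizer_singleton_iff.2 (congrArg Subtype.val (mem_centralizer_singleton_iff.1 y.2))⟩)

omit h in
theorem lt_of_notMem_center {a : G} (ha : a ∉ center G) :
    Nat.card (centralizer ({a} : Set G)) < Nat.card G := by
  refine lt_of_le_of_ne (Subgroup.card_le_card_group _) fun e => ha ?_
  have := (Subgroup.card_eq_iff_eq_top _).1 e
  rw [mem_center_iff]
  intro g
  exact mem_centralizer_singleton_iff.1 (this ▸ mem_top g)

/-- The inductive hypotheses of the central case. -/
theorem Data.hypotheses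
    (IH : ∀ (X : Type u) [Group X] [Finite X], Nat.card X < Nat.card G → ∀ S : Sylow 2 X, Data S → Target S)
    (hz : ∀ a ∈ A, a ≠ 1 → Odd (orderOf a) → a ∉ center G) : h.OddCentral ∧ h.Dependent := by
  have hlt : ∀ a ∈ A, a ≠ 1 → ∀ P : G ⧸ N, P ≠ x₀ → h.Cen a P →
      Nat.card (centralizer ({a} : Set G)) < Nat.card G := fun a ha ha1 P hP hcen =>
    lt_of_notMem_center (hz a ha ha1
      (h.odd_of_fix hP (h.cen_fix hcen) (fixed_one_iff.2 (centralizer_le_N ha))))
  refine ⟨?_, ?_⟩
  · intro a ha ha1 P hP hcen β hβ hodd g hg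
    obtain ⟨hT, hD⟩ := h.sub ha hP hcen
    obtain ⟨hodd', -⟩ := IH _ (hlt a ha ha1 P hP hcen) _ hD
    have hβK : β ∈ centralizer ({a} : Set G) :=
      mem_centralizer_singleton_iff.2 (h.commA β hβ a ha)
    have := hodd' ⟨β, hβK⟩
      (mem_centralizer_iff.2 fun t ht => Subtype.ext (mem_centralizer_iff.1 hβ t ht))
      (by rwa [← Subgroup.orderOf_coe])
    exact congrArg Subtype.val (mem_center_iff.1 this ⟨g, mem_centralizer_singleton_iff.2 hg.eq⟩)
  · intro a ha ha1 P hP hcen r hr hr2 β γ hβr hγr hβγ hβa hγa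
    obtain ⟨hT, hD⟩ := h.sub ha hP hcen
    haveI : Fact r.Prime := ⟨hr⟩
    set K := centralizer ({a} : Set G) with hK
    obtain ⟨-, F, _, _, hF, φ, -, hker, -⟩ := IH _ (hlt a ha ha1 P hP hcen) _ hD
    set β' : K := ⟨β, mem_centralizer_singleton_iff.2 hβa.eq⟩
    set γ' : K := ⟨γ, mem_centralizer_singleton_iff.2 hγa.eq⟩
    have hcent : ∀ x : K, φ x = 1 → ∀ g : G, Commute g a → Commute g (x : G) := fun x hx g hg =>
      congrArg Subtype.val (mem_center_iff.1 (hker (MonoidHom.mem_ker.2 hx))
        ⟨g, mem_centralizer_singleton_iff.2 hg.eq⟩)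
    by_cases hg1 : φ γ' = 1
    · exact Or.inl (hcent γ' hg1)
    refine Or.inr ?_
    have hb' : φ β' ^ r = 1 := by rw [← map_pow, show β' ^ r = 1 from Subtype.ext hβr, map_one]
    have hg' : φ γ' ^ r = 1 := by rw [← map_pow, show γ' ^ r = 1 from Subtype.ext hγr, map_one]
    have hcomm : Commute (φ β') (φ γ') :=
      (show Commute β' γ' from Subtype.ext hβγ.eq).map φ
    set H := zpowers (φ γ') ⊔ zpowers (φ β') with hH
    have hpow : ∀ z : Matrix.SpecialLinearGroup (Fin 2) F, z ^ r = 1 → IsPGroup r (zpowers z) := by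
      intro z hz'
      rintro ⟨x, k, rfl⟩
      refine ⟨1, Subtype.ext ?_⟩
      show (z ^ k) ^ (r ^ 1) = 1
      rw [pow_one, ← zpow_natCast, ← zpow_mul, mul_comm, zpow_mul, zpow_natCast, hz', one_zpow]
    have hHp : IsPGroup r H := (hpow _ hg').to_sup_of_normal_right' (hpow _ hb') (by
      refine le_trans ?_ (Subgroup.centralizer_le_normalizer _)
      rw [zpowers_le, mem_centralizer_iff]
      rintro x ⟨k, rfl⟩
      exact (hcomm.zpow_left k).eq)
    obtain ⟨R, hR⟩ := hHp.exists_le_sylow
    haveI := CfsgLib.Classical.sylow_odd_cyclic (F := F) 2 r hr2 hr2 R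
    obtain ⟨⟨w, hw⟩, hgen⟩ := IsCyclic.exists_generator (α := (R : Subgroup (Matrix.SpecialLinearGroup (Fin 2) F)))
    classical
    let bR : (R : Subgroup (Matrix.SpecialLinearGroup (Fin 2) F)) := ⟨φ β', hR (mem_sup_right (mem_zpowers _))⟩
    let gR : (R : Subgroup (Matrix.SpecialLinearGroup (Fin 2) F)) := ⟨φ γ', hR (mem_sup_left (mem_zpowers _))⟩
    haveI := Fintype.ofFinite (R : Subgroup (Matrix.SpecialLinearGroup (Fin 2) F))
    have hgo : orderOf gR = r := orderOf_eq_prime (Subtype.ext hg') fun e => hg1 (congrArg Subtype.val e)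
    have hsub : (Finset.univ.image fun i : Fin r => gR ^ (i : ℕ)) ⊆
        Finset.univ.filter fun z => z ^ r = 1 := by
      intro z hz'
      obtain ⟨i, -, rfl⟩ := Finset.mem_image.1 hz'
      rw [Finset.mem_filter]
      refine ⟨Finset.mem_univ _, ?_⟩
      rw [← pow_mul, mul_comm, pow_mul, orderOf_dvd_iff_pow_eq_one.1 hgo.dvd, one_pow]
    have heq := Finset.eq_of_subset_of_card_le hsub (by
      rw [Finset.card_image_of_injective _ fun i j e => Fin.ext (pow_injOn_Iio_orderOf
        (show (i : ℕ) < orderOf gR from hgo.symm ▸ i.2) (show (j : ℕ) < orderOf gR from hgo.symm ▸ j.2) e)]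
      simpa using IsCyclic.card_pow_eq_one_le
        (α := (R : Subgroup (Matrix.SpecialLinearGroup (Fin 2) F))) hr.pos)
    obtain ⟨i, -, hi⟩ : ∃ i ∈ (Finset.univ : Finset (Fin r)), gR ^ (i : ℕ) = bR :=
      Finset.mem_image.1 (heq.symm ▸ Finset.mem_filter.2 ⟨Finset.mem_univ _, Subtype.ext hb'⟩)
    refine ⟨(i : ℕ), ?_⟩
    have hx : φ (β' * (γ' ^ (i : ℕ))⁻¹) = 1 := by
      rw [map_mul, map_inv, map_pow, mul_inv_eq_one]
      exact (congrArg Subtype.val hi).symm
    exact hcent _ hx

omit h in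
/-- The quotient by a central subgroup of odd order. -/
theorem Data.quot (h : Data T) {Z : Subgroup G} [Z.Normal] (hZ : Z ≤ center G) (hodd : Odd (Nat.card Z))
    (S : Sylow 2 (G ⧸ Z))
    (hS : (S : Subgroup (G ⧸ Z)) = (T : Subgroup G).map (QuotientGroup.mk' Z)) : Data S := by
  set π := QuotientGroup.mk' Z with hπ
  have hπs : Function.Surjective π := QuotientGroup.mk'_surjective Z
  have hker : π.ker = Z := QuotientGroup.ker_mk' Z
  have hTZ : ∀ t ∈ (T : Subgroup G), ∀ z ∈ Z, orderOf (t * z) ∣ Nat.card (T : Subgroup G) → z = 1 := by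
    intro t ht z hz hd
    have hcz : Commute t z := mem_center_iff.1 (hZ hz) t
    have h1 : (t * z) ^ Nat.card (T : Subgroup G) = 1 := orderOf_dvd_iff_pow_eq_one.1 hd
    rw [hcz.mul_pow] at h1
    rw [orderOf_dvd_iff_pow_eq_one.1 (Subgroup.orderOf_dvd_natCard _ ht), one_mul] at h1
    obtain ⟨k, hk⟩ := T.2.exists_card_eq
    exact orderOf_eq_one_iff.1 (Nat.eq_one_of_dvd_coprimes
      (a := Nat.card (T : Subgroup G)) (b := Nat.card Z)
      (by rw [hk]; exact (Nat.coprime_two_left.2 hodd).pow_left k)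
      (orderOf_dvd_of_pow_eq_one h1) (Subgroup.orderOf_dvd_natCard _ hz))
  refine ⟨?_, ?_, ?_⟩
  · intro hcyc
    apply h.notCyclic
    have hinj : Function.Injective (π.subgroupMap (T : Subgroup G)) := by
      rw [injective_iff_map_eq_one]
      intro t ht
      have : (t : G) ∈ Z := hker ▸ MonoidHom.mem_ker.2 (congrArg Subtype.val ht)
      have h1 := hTZ 1 (one_mem _) _ this (by rw [one_mul]; exact Subgroup.orderOf_dvd_natCard _ t.2)
      exact Subtype.ext h1
    haveI : IsCyclic ((T : Subgroup G).map π) := hS ▸ hcyc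
    exact isCyclic_of_injective _ hinj
  · intro hn
    apply h.notNormal
    refine ⟨fun t ht g => ?_⟩
    have h1 : π (g * t * g⁻¹) ∈ (T : Subgroup G).map π := by
      rw [← hS, map_mul, map_mul, map_inv]
      exact hn.conj_mem _ (hS ▸ mem_map_of_mem π ht) _
    obtain ⟨t', ht', e⟩ := h1
    have hz : t'⁻¹ * (g * t * g⁻¹) ∈ Z := by rw [← hker, MonoidHom.mem_ker, map_mul, map_inv, e, inv_mul_cancel]
    have h2 := hTZ t' ht' _ hz (by
      rw [mul_inv_cancel_left,
        show orderOf (g * t * g⁻¹) = orderOf t from MulEquiv.orderOf_eq (MulAut.conj g) t]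
      exact Subgroup.orderOf_dvd_natCard _ ht)
    rw [inv_mul_eq_one] at h2
    rwa [← h2]
  · intro t ht
    obtain ⟨t₀, ht₀, rfl⟩ := exists_lift_invol π hπs (by rw [hker]; exact hodd) (invol_mul_self ht)
    have ht₀o : orderOf t₀ = 2 := orderOf_eq_prime (by rw [sq, ht₀]) fun e => by
      rw [e, map_one, orderOf_one] at ht; omega
    have hlift : ∀ x ∈ centralizer ({π t₀} : Set (G ⧸ Z)), ∃ g ∈ centralizer ({t₀} : Set G), π g = x := by
      intro x hx
      obtain ⟨g, rfl⟩ := hπs x
      refine ⟨g, mem_centralizer_singleton_iff.2 ?_, rfl⟩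
      have hz : g * t₀ * g⁻¹ * t₀⁻¹ ∈ Z := by
        rw [← hker, MonoidHom.mem_ker, map_mul, map_mul, map_mul, map_inv, map_inv,
          mem_centralizer_singleton_iff.1 hx, mul_inv_cancel_right, mul_inv_cancel]
      set z := g * t₀ * g⁻¹ * t₀⁻¹ with hz'
      have hconj : g * t₀ * g⁻¹ = z * t₀ := by rw [hz']; group
      have hz2 : z ^ 2 = 1 := by
        have h2 : (z * t₀) ^ 2 = 1 := by
          rw [← hconj, conj_pow, sq, ht₀, mul_one, mul_inv_cancel]
        rwa [(show Commute z t₀ from (mem_center_iff.1 (hZ hz) t₀).symm).mul_pow, sq t₀, ht₀, mul_one] at h2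
      have hz1 : z = 1 := eq_one_of_sq (hodd.of_dvd_nat (Subgroup.orderOf_dvd_natCard _ hz)) hz2
      rw [hz1, one_mul] at hconj
      exact mul_inv_eq_iff_eq_mul.1 hconj
    refine ⟨⟨fun x y => Subtype.ext ?_⟩⟩
    obtain ⟨g, hg, e⟩ := hlift x x.2
    obtain ⟨k, hk, e'⟩ := hlift y y.2
    rw [Subgroup.coe_mul, Subgroup.coe_mul, ← e, ← e', ← map_mul, ← map_mul]
    exact congrArg π (congrArg Subtype.val ((h.comm _ ht₀o).is_comm.comm ⟨g, hg⟩ ⟨k, hk⟩))

omit h in
theorem target (n : ℕ) : ∀ (X : Type u) [Group X] [Finite X], Nat.card X = n →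
    ∀ S : Sylow 2 X, Data S → Target S := by
  induction n using Nat.strong_induction_on with
  | _ n IH =>
    intro X _ _ hn S h
    have IH' : ∀ (Y : Type u) [Group Y] [Finite Y], Nat.card Y < Nat.card X →
        ∀ S' : Sylow 2 Y, Data S' → Target S' := fun Y _ _ hY => IH _ (hn ▸ hY) Y rfl
    haveI : Fact (Nat.Prime 2) := ⟨Nat.prime_two⟩
    by_cases hz : ∀ a ∈ centralizer ((S : Subgroup X) : Set X), a ≠ 1 → Odd (orderOf a) → a ∉ center X
    · obtain ⟨hC, hdep⟩ := h.hypotheses IH' hz
      have hTI := h.trivInter hC hdep hz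
      have hsq := h.sq_eq_one hTI
      obtain ⟨F, _, _, hF, ⟨e⟩⟩ := Cfsg.Agent.S1230.result S h.notCyclic h.notNormal (fun t ht => by
        refine ⟨h.comm t ht, fun c hc => ?_⟩
        obtain ⟨P, hP⟩ := h.exists_fixed_point ht
        obtain ⟨g, rfl⟩ := MulAction.exists_smul_eq X ((1 : X) : X ⧸ normalizer ((S : Subgroup X) : Set X)) P
        have h1 := h.cen_smul g⁻¹ (h.cen_of_commute ht hP (mem_centralizer_singleton_iff.1 hc))
        rw [inv_smul_smul, inv_inv] at h1
        have h2 := hsq _ (h.cen_base.1 h1)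
        rw [show g⁻¹ * c * g = g⁻¹ * c * g⁻¹⁻¹ by rw [inv_inv], conj_pow] at h2
        exact conj_eq_one_iff.1 h2)
      obtain ⟨k, hk⟩ := S.2.exists_card_eq
      obtain ⟨p, hchar⟩ := CharP.exists F
      haveI := hchar
      obtain ⟨m, hp, hm⟩ := FiniteField.card F p
      have hp2 : p = 2 := by
        have h1 : p ^ (m : ℕ) = 2 ^ k := by rw [← hm, hF, hk]
        exact (Nat.prime_dvd_prime_iff_eq hp Nat.prime_two).1
          (hp.dvd_of_dvd_pow (h1 ▸ dvd_pow_self p m.ne_zero))
      subst hp2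
      refine ⟨fun β hβ hodd => ?_, ?_⟩
      · rw [eq_one_of_sq hodd (hsq β hβ)]; exact one_mem _
      let e' : Matrix.ProjectiveSpecialLinearGroup (Fin 2) F ≃* Matrix.SpecialLinearGroup (Fin 2) F :=
        (QuotientGroup.quotientMulEquivOfEq
          (CfsgLib.Lie.ShortPres.center_eq_bot_of_two (CharTwo.two_eq_zero (R := F)))).trans
          QuotientGroup.quotientBot
      refine ⟨F, inferInstance, inferInstance, hchar, (e.trans e').toMonoidHom, (e.trans e').surjective, ?_, ?_⟩
      · rw [(MonoidHom.ker_eq_bot_iff _).2 (e.trans e').injective]; exact bot_le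
      · rw [(MonoidHom.ker_eq_bot_iff _).2 (e.trans e').injective, card_bot]; exact odd_one
    · push Not at hz
      obtain ⟨a, -, ha1, haodd, hac⟩ := hz
      set Z := zpowers a with hZdef
      have hZc : Z ≤ center X := zpowers_le.2 hac
      haveI : Z.Normal := ⟨fun n hn g => by rw [mem_center_iff.1 (hZc hn) g, mul_inv_cancel_right]; exact hn⟩
      have hZodd : Odd (Nat.card Z) := by rw [Nat.card_zpowers]; exact haodd
      have hlt : Nat.card (X ⧸ Z) < Nat.card X := by
        have h1 := Subgroup.card_eq_card_quotient_mul_card_subgroup Z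
        have h2 : 1 < Nat.card Z := by
          rw [Nat.card_zpowers]
          exact lt_of_le_of_ne (orderOf_pos a) (fun e => ha1 (orderOf_eq_one_iff.1 e.symm))
        have h3 : 0 < Nat.card (X ⧸ Z) := Nat.card_pos
        calc Nat.card (X ⧸ Z) < Nat.card (X ⧸ Z) * Nat.card Z := lt_mul_of_one_lt_right h3 h2
          _ = Nat.card X := h1.symm
      set π := QuotientGroup.mk' Z with hπ
      let S' : Sylow 2 (X ⧸ Z) := S.mapSurjective (QuotientGroup.mk'_surjective Z)
      have hS' : (S' : Subgroup (X ⧸ Z)) = (S : Subgroup X).map π := rfl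
      obtain ⟨hodd', F, _, _, hF, φ, hφ, hker, hkodd⟩ := IH' _ hlt S' (h.quot hZc hZodd S' hS')
      set ψ := φ.comp π with hψ
      have hψs : Function.Surjective ψ := hφ.comp (QuotientGroup.mk'_surjective Z)
      have hψodd : Odd (Nat.card ψ.ker) := by
        have h1 : Nat.card ψ.ker * Nat.card (Matrix.SpecialLinearGroup (Fin 2) F) = Nat.card X := by
          rw [← Subgroup.card_mul_index ψ.ker, Subgroup.index_ker, MonoidHom.range_eq_top.2 hψs,
            Subgroup.card_top]
        have h2 : Nat.card φ.ker * Nat.card (Matrix.SpecialLinearGroup (Fin 2) F) = Nat.card (X ⧸ Z) := by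
          rw [← Subgroup.card_mul_index φ.ker, Subgroup.index_ker, MonoidHom.range_eq_top.2 hφ,
            Subgroup.card_top]
        have h4 : Nat.card ψ.ker = Nat.card φ.ker * Nat.card Z := by
          refine Nat.eq_of_mul_eq_mul_right
            (Nat.card_pos (α := Matrix.SpecialLinearGroup (Fin 2) F)) ?_
          rw [h1, Subgroup.card_eq_card_quotient_mul_card_subgroup Z, ← h2]; ring
        rw [h4]; exact hkodd.mul hZodd
      have hgker : ∀ g ∈ ψ.ker, g ∈ centralizer ((S : Subgroup X) : Set X) := by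
        intro g hg
        refine mem_centralizer_iff.2 fun t ht => ?_
        have hc : π g ∈ center (X ⧸ Z) := hker (MonoidHom.mem_ker.2 (MonoidHom.mem_ker.1 hg))
        have hz : g * t * g⁻¹ * t⁻¹ ∈ Z := by
          rw [← QuotientGroup.ker_mk' Z, MonoidHom.mem_ker, map_mul, map_mul, map_mul, map_inv, map_inv,
            ← mem_center_iff.1 hc (π t), mul_inv_cancel_right, mul_inv_cancel]
        set z := g * t * g⁻¹ * t⁻¹ with hz'
        have hconj : g * t * g⁻¹ = z * t := by rw [hz']; group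
        obtain ⟨k, hk⟩ := S.2.exists_card_eq
        have ht1 : t ^ 2 ^ k = 1 :=
          orderOf_dvd_iff_pow_eq_one.1 (hk ▸ Subgroup.orderOf_dvd_natCard _ ht)
        have h2 : z ^ 2 ^ k = 1 := by
          have := congrArg (fun x => x ^ 2 ^ k) hconj
          simp only [conj_pow, ht1, mul_one, mul_inv_cancel] at this
          rwa [(show Commute z t from (mem_center_iff.1 (hZc hz) t).symm).mul_pow, ht1, mul_one,
            eq_comm] at this
        have hz1 := eq_one_of_odd_of_pow_two (hZodd.of_dvd_nat (Subgroup.orderOf_dvd_natCard _ hz)) h2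
        rw [hz1, one_mul] at hconj
        exact (mul_inv_eq_iff_eq_mul.1 hconj).symm
      have hcentral : ∀ β ∈ centralizer ((S : Subgroup X) : Set X), Odd (orderOf β) → β ∈ center X := by
        intro β hβ hβodd
        have hc : π β ∈ center (X ⧸ Z) := hodd' (π β) (mem_centralizer_iff.2 fun x hx => by
            obtain ⟨t, ht, rfl⟩ := hx
            rw [← map_mul, ← map_mul, mem_centralizer_iff.1 hβ t ht])
          (hβodd.of_dvd_nat (orderOf_map_dvd π β))
        have hzg : ∀ g : X, g * β * g⁻¹ * β⁻¹ ∈ Z := fun g => by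
          rw [← QuotientGroup.ker_mk' Z, MonoidHom.mem_ker, map_mul, map_mul, map_mul, map_inv, map_inv,
            mem_center_iff.1 hc (π g), mul_inv_cancel_right, mul_inv_cancel]
        have hinv : ∀ t : X, t * t = 1 → t * β = β * t := by
          intro t ht
          set z := t * β * t⁻¹ * β⁻¹ with hz'
          have hconj : t * β * t⁻¹ = z * β := by rw [hz']; group
          have hzc := mem_center_iff.1 (hZc (hzg t))
          have h2 : t * (t * β * t⁻¹) * t⁻¹ = β := by
            rw [inv_eq_of_mul_eq_one_right ht,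
              show t * (t * β * t) * t = (t * t) * β * (t * t) by group, ht, one_mul, mul_one]
          rw [hconj, show t * (z * β) * t⁻¹ = (t * z) * β * t⁻¹ by group, hzc t,
            show z * t * β * t⁻¹ = z * (t * β * t⁻¹) by group, hconj, ← mul_assoc, mul_eq_right] at h2
          have hz1 : z = 1 :=
            eq_one_of_sq (hZodd.of_dvd_nat (Subgroup.orderOf_dvd_natCard _ (hzg t))) (by rw [sq, h2])
          rw [hz1, one_mul] at hconj
          exact mul_inv_eq_iff_eq_mul.1 hconj
        rw [mem_center_iff]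
        have htop : (centralizer ({β} : Set X)).map ψ = ⊤ := sl2_closure_invols _ fun t ht => by
          obtain ⟨g, hg, e⟩ := exists_lift_invol ψ hψs hψodd ht
          exact ⟨g, mem_centralizer_singleton_iff.2 (hinv g hg), e⟩
        intro g
        obtain ⟨g', hg', e⟩ : ψ g ∈ (centralizer ({β} : Set X)).map ψ := htop ▸ mem_top _
        have hk : g'⁻¹ * g ∈ ψ.ker := by rw [MonoidHom.mem_ker, map_mul, map_inv, e, inv_mul_cancel]
        have h1 : Commute g' β := mem_centralizer_singleton_iff.1 hg'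
        have h2 : Commute (g'⁻¹ * g) β := h.commA _ (hgker _ hk) β hβ
        have := h1.mul_left h2
        rw [mul_inv_cancel_left] at this
        exact this.eq
      exact ⟨hcentral, F, inferInstance, inferInstance, hF, ψ, hψs, fun g hg => hcentral g (hgker g hg)
        (hψodd.of_dvd_nat (Subgroup.orderOf_dvd_natCard _ hg)), hψodd⟩

omit h in
/-- An odd central kernel over `SL(2, 2^n)` splits off. -/
theorem split {X : Type u} [Group X] [Finite X] {F : Type} [Field F] [Fintype F] [CharP F 2]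
    (φ : X →* Matrix.SpecialLinearGroup (Fin 2) F) (hsur : Function.Surjective φ)
    (hker : φ.ker ≤ center X) (hodd : Odd (Nat.card φ.ker)) :
    ∃ (B : Type) (_ : CommGroup B) (_ : Finite B), Odd (Nat.card B) ∧
      Nonempty (X ≃* Matrix.SpecialLinearGroup (Fin 2) F × B) := by
  classical
  set L : Subgroup X := closure {t | t * t = 1} with hL
  have hLtop : L.map φ = ⊤ := sl2_closure_invols _ fun t ht => by
    obtain ⟨g, hg, e⟩ := exists_lift_invol φ hsur hodd ht
    exact ⟨g, subset_closure hg, e⟩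
  have hdisj : ∀ z ∈ L, φ z = 1 → z = 1 := by
    intro z hzL hz
    by_contra hz1
    obtain ⟨r, hr, hdvd⟩ := Nat.exists_prime_and_dvd (mt orderOf_eq_one_iff.1 hz1)
    haveI : Fact r.Prime := ⟨hr⟩
    set w := z ^ (orderOf z / r) with hw
    have hwo : orderOf w = r := by
      rw [hw, orderOf_pow_of_dvd
        (Nat.div_pos (Nat.le_of_dvd (orderOf_pos _) hdvd) hr.pos).ne' (Nat.div_dvd_of_dvd hdvd),
        Nat.div_div_self hdvd (orderOf_pos _).ne']
    have hwk : w ∈ φ.ker := pow_mem (MonoidHom.mem_ker.2 hz) _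
    have hr2 : r ≠ 2 := fun e => Nat.not_even_iff_odd.2
      (hodd.of_dvd_nat (Subgroup.orderOf_dvd_natCard φ.ker hwk)) (even_iff_two_dvd.2 (by rw [hwo, e]))
    obtain ⟨P, hP⟩ := (IsPGroup.of_card (n := 1)
      (by rw [Nat.card_zpowers, hwo, pow_one]) : IsPGroup r (zpowers w)).exists_le_sylow
    obtain ⟨R, hR⟩ := (P.2.map φ).exists_le_sylow
    haveI := CfsgLib.Classical.sylow_odd_cyclic (F := F) 2 r hr2 hr2 R
    let f : (P : Subgroup X) →* (R : Subgroup (Matrix.SpecialLinearGroup (Fin 2) F)) :=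
      (φ.comp (P : Subgroup X).subtype).codRestrict _ fun x => hR (mem_map_of_mem φ x.2)
    have hf : f.ker ≤ center (P : Subgroup X) := fun x hx => mem_center_iff.2 fun y =>
      Subtype.ext (mem_center_iff.1
        (hker (MonoidHom.mem_ker.2 (congrArg Subtype.val (MonoidHom.mem_ker.1 hx)))) y)
    haveI : IsMulCommutative (P : Subgroup X) :=
      MonoidHom.isMulCommutative_of_isCyclic_of_ker_le_center f hf
    letI : CommGroup (P : Subgroup X) :=
      { (inferInstance : Group (P : Subgroup X)) with mul_comm := fun a b => mul_comm' a b }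
    let τ : X →* (P : Subgroup X) :=
      MonoidHom.transfer (MonoidHom.id (P : Subgroup X))
    have hkill : L ≤ τ.ker := by
      rw [hL, closure_le]
      intro t ht
      have h2 : (τ t) ^ 2 = 1 := by rw [← map_pow, sq, ht, map_one]
      obtain ⟨k, hk⟩ := P.2.exists_card_eq
      have hoddP : Odd (orderOf (τ t)) :=
        ((hr.odd_of_ne_two hr2).pow (n := k)).of_dvd_nat (hk ▸ orderOf_dvd_natCard (τ t))
      exact MonoidHom.mem_ker.2 (eq_one_of_sq hoddP h2)
    have hkey : ∀ (k : ℕ) (g₀ : X), g₀⁻¹ * w ^ k * g₀ ∈ (P : Subgroup X) → g₀⁻¹ * w ^ k * g₀ = w ^ k :=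
      fun k g₀ _ => by
        rw [mul_assoc, ← mem_center_iff.1 (pow_mem (hker hwk) k) g₀, inv_mul_cancel_left]
    have h1 : τ w = 1 := MonoidHom.mem_ker.1 (hkill (pow_mem hzL _))
    rw [MonoidHom.transfer_eq_pow _ w hkey] at h1
    have h1' : w ^ (P : Subgroup X).index = 1 := congrArg Subtype.val h1
    have h2 := orderOf_dvd_of_pow_eq_one h1'
    rw [hwo] at h2
    exact P.not_dvd_index h2
  have hLφ : ∀ x : Matrix.SpecialLinearGroup (Fin 2) F, ∃ g ∈ L, φ g = x := fun x => by
    have : x ∈ L.map φ := hLtop ▸ mem_top x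
    exact this
  choose σ hσL hσφ using hLφ
  have hσm : ∀ x y, σ (x * y) = σ x * σ y := fun x y => by
    have := hdisj ((σ (x * y))⁻¹ * (σ x * σ y)) (mul_mem (inv_mem (hσL _)) (mul_mem (hσL _) (hσL _)))
      (by simp only [map_mul, map_inv, hσφ, inv_mul_cancel])
    exact inv_mul_eq_one.1 this
  let ι : Matrix.SpecialLinearGroup (Fin 2) F × φ.ker →* X :=
    { toFun := fun p => σ p.1 * p.2
      map_one' := by
        have h1 : σ 1 = 1 := left_eq_mul.1 (by rw [← hσm, one_mul] : σ 1 = σ 1 * σ 1)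
        simp [h1]
      map_mul' := fun p q => by
        show σ (p.1 * q.1) * ((p.2 : X) * q.2) = σ p.1 * p.2 * (σ q.1 * q.2)
        rw [hσm]
        calc σ p.1 * σ q.1 * ((p.2 : X) * q.2) = σ p.1 * (σ q.1 * (p.2 : X)) * q.2 := by group
          _ = σ p.1 * ((p.2 : X) * σ q.1) * q.2 := by rw [mem_center_iff.1 (hker p.2.2) (σ q.1)]
          _ = σ p.1 * p.2 * (σ q.1 * q.2) := by group }
  have hι : Function.Bijective ι := by
    refine ⟨?_, fun g => ⟨(φ g, ⟨(σ (φ g))⁻¹ * g, by simp [MonoidHom.mem_ker, hσφ]⟩),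
      mul_inv_cancel_left _ g⟩⟩
    rintro ⟨x, z⟩ ⟨y, w⟩ e
    have e' : σ x * z = σ y * w := e
    have h1 : x = y := by
      have := congrArg φ e'
      rwa [map_mul, map_mul, MonoidHom.mem_ker.1 z.2, MonoidHom.mem_ker.1 w.2, mul_one, mul_one,
        hσφ, hσφ] at this
    subst h1
    exact Prod.ext rfl (Subtype.ext (mul_left_cancel e'))
  letI : CommGroup φ.ker :=
    { (inferInstance : Group φ.ker) with
      mul_comm := fun a b => Subtype.ext (mem_center_iff.1 (hker b.2) (a : X)) }
  letI : CommGroup (Shrink.{0} φ.ker) := (equivShrink.{0} φ.ker).symm.commGroup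
  refine ⟨Shrink.{0} φ.ker, inferInstance, Finite.of_equiv _ (equivShrink.{0} φ.ker),
    by rwa [← Nat.card_congr (equivShrink.{0} φ.ker)], ⟨(MulEquiv.ofBijective ι hι).symm.trans ?_⟩⟩
  exact MulEquiv.prodCongr (MulEquiv.refl _) (Shrink.mulEquiv.{0} (α := φ.ker)).symm

end CfsgLib.AbCent
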