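import Cfsg.Agent.Lib.Invol.StronglyEmbeddedOrbits
import Cfsg.Agent.Lib.Invol.TI

/-!
# Groups with abelian centralizers of involutions: the action on the Sylow 2-subgroups

For a Sylow 2-subgroup `T` that is neither cyclic nor normal, `N = N(T)` is strongly embedded and
`A = C(T)` is the centralizer of every involution of `T`.
-/

set_option autoImplicit false
set_option linter.unusedSectionVars false

namespace CfsgLib.AbCent

open Subgroup MulAction CfsgLib.Invol

universe u

variable {G : Type u} [Group G] [Finite G]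

/-- A Sylow 2-subgroup, neither cyclic nor normal, in a group with abelian involution centralizers. -/
structure Data (T : Sylow 2 G) : Prop where
  notCyclic : ¬ IsCyclic (T : Subgroup G)
  notNormal : ¬ (T : Subgroup G).Normal
  comm : ∀ t : G, orderOf t = 2 → IsMulCommutative (centralizer ({t} : Set G))

/-- An odd power of an element generates it. -/
theorem mem_zpowers_sq {x : G} (hx : Odd (orderOf x)) : x ∈ zpowers (x ^ 2) := by
  obtain ⟨k, hk⟩ := hx
  refine ⟨(k : ℤ) + 1, ?_⟩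
  show (x ^ 2) ^ ((k : ℤ) + 1) = x
  rw [show ((k : ℤ) + 1) = ((k + 1 : ℕ) : ℤ) by push_cast; ring, zpow_natCast, ← pow_mul,
    show 2 * (k + 1) = orderOf x + 1 by omega, pow_succ, pow_orderOf_eq_one, one_mul]

theorem mem_of_sq_mem {H : Subgroup G} {x : G} (hx : Odd (orderOf x)) (h : x ^ 2 ∈ H) : x ∈ H :=
  zpowers_le.2 h (mem_zpowers_sq hx)

theorem commute_of_sq {x y : G} (hx : Odd (orderOf x)) (h : Commute (x ^ 2) y) : Commute x y := by
  obtain ⟨k, hk⟩ := mem_zpowers_sq hx
  rw [← (show (x ^ 2) ^ k = x from hk)]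
  exact h.zpow_left k

theorem eq_one_of_sq {x : G} (hx : Odd (orderOf x)) (h : x ^ 2 = 1) : x = 1 := by
  have := mem_zpowers_sq hx
  rwa [h, zpowers_one_eq_bot, mem_bot] at this

variable {T : Sylow 2 G} (h : Data T)

local notation "N" => normalizer ((T : Subgroup G) : Set G)
local notation "A" => centralizer ((T : Subgroup G) : Set G)
local notation "x₀" => ((1 : G) : G ⧸ normalizer ((T : Subgroup G) : Set G))

include h

theorem Data.exists_two_invols :
    (∃ s ∈ (T : Subgroup G), orderOf s = 2) ∧ ∀ a ∈ (T : Subgroup G), ∀ b ∈ (T : Subgroup G),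
      a * b = b * a := by
  haveI : Fact (Nat.Prime 2) := ⟨Nat.prime_two⟩
  haveI : Nontrivial (T : Subgroup G) := by
    by_contra hne
    rw [not_nontrivial_iff_subsingleton] at hne
    exact h.notCyclic isCyclic_of_subsingleton
  haveI : Nontrivial (center (T : Subgroup G)) := T.2.center_nontrivial
  have hp : IsPGroup 2 (center (T : Subgroup G)) := T.2.to_subgroup _
  obtain ⟨z, hzo⟩ := exists_prime_orderOf_dvd_card' (G := center (T : Subgroup G)) 2 (by
    obtain ⟨k, hk⟩ := IsPGroup.iff_card.1 hp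
    rcases k with _ | k
    · have := Finite.one_lt_card (α := center (T : Subgroup G))
      rw [hk] at this; norm_num at this
    · rw [hk]; exact dvd_pow_self 2 (Nat.succ_ne_zero k))
  rw [← Subgroup.orderOf_coe, ← Subgroup.orderOf_coe] at hzo
  refine ⟨⟨_, (z : (T : Subgroup G)).2, hzo⟩, ?_⟩
  have hle : (T : Subgroup G) ≤ centralizer ({((z : (T : Subgroup G)) : G)} : Set G) := fun u hu =>
    mem_centralizer_singleton_iff.2
      (congrArg Subtype.val (mem_center_iff.1 z.2 (⟨u, hu⟩ : (T : Subgroup G))))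
  intro a ha b hb
  exact congrArg Subtype.val ((h.comm _ hzo).is_comm.comm ⟨a, hle ha⟩ ⟨b, hle hb⟩)

theorem Data.exists_invol : ∃ s ∈ (T : Subgroup G), orderOf s = 2 := h.exists_two_invols.1

theorem Data.commT : ∀ a ∈ (T : Subgroup G), ∀ b ∈ (T : Subgroup G), a * b = b * a :=
  h.exists_two_invols.2

theorem Data.centralizer_eq {t : G} (ht : t ∈ (T : Subgroup G)) (hto : orderOf t = 2) :
    centralizer ({t} : Set G) = A := by
  refine le_antisymm (fun c hc => mem_centralizer_iff.2 fun v hv => ?_)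
    (centralizer_le (Set.singleton_subset_iff.2 ht))
  exact congrArg Subtype.val ((h.comm t hto).is_comm.comm
    ⟨v, mem_centralizer_singleton_iff.2 (h.commT v hv t ht)⟩ ⟨c, hc⟩)

theorem Data.commA : ∀ a ∈ A, ∀ b ∈ A, a * b = b * a := by
  obtain ⟨s, hs, hso⟩ := h.exists_invol
  intro a ha b hb
  rw [← h.centralizer_eq hs hso] at ha hb
  exact congrArg Subtype.val ((h.comm s hso).is_comm.comm ⟨a, ha⟩ ⟨b, hb⟩)

omit h in
theorem centralizer_le_N : A ≤ N := fun a ha => by
  rw [mem_normalizer_iff]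
  intro v
  constructor
  · intro hv
    rw [← mem_centralizer_iff.1 ha v hv, mul_inv_cancel_right]; exact hv
  · intro hv
    have h1 := mem_centralizer_iff.1 ha _ hv
    have : a * v * a⁻¹ = v := by
      calc a * v * a⁻¹ = a⁻¹ * (a * (a * v * a⁻¹)) := by group
        _ = a⁻¹ * ((a * v * a⁻¹) * a) := by rw [h1]
        _ = v := by group
    rwa [this] at hv

omit h in
theorem T_le_A (hc : ∀ a ∈ (T : Subgroup G), ∀ b ∈ (T : Subgroup G), a * b = b * a) :
    (T : Subgroup G) ≤ A := fun a ha => mem_centralizer_iff.2 fun v hv => hc v hv a ha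

omit h in
theorem conj_mem_A {n a : G} (hn : n ∈ N) (ha : a ∈ A) : n * a * n⁻¹ ∈ A := by
  refine mem_centralizer_iff.2 fun v hv => ?_
  have hv' : n⁻¹ * v * n ∈ (T : Subgroup G) := (mem_normalizer_iff''.1 hn v).1 hv
  have h1 := mem_centralizer_iff.1 ha _ hv'
  calc v * (n * a * n⁻¹) = n * ((n⁻¹ * v * n) * a) * n⁻¹ := by group
    _ = n * (a * (n⁻¹ * v * n)) * n⁻¹ := by rw [h1]
    _ = n * a * n⁻¹ * v := by group

theorem Data.mem_T {t : G} (ht : t ∈ N) (hto : orderOf t = 2) : t ∈ (T : Subgroup G) := by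
  haveI : Fact (Nat.Prime 2) := ⟨Nat.prime_two⟩
  have hp : IsPGroup 2 (zpowers t) :=
    IsPGroup.of_card (n := 1) (by rw [Nat.card_zpowers, hto, pow_one])
  exact (T.3 (hp.to_sup_of_normal_right' T.2 (zpowers_le.2 ht)) le_sup_right).le
    (mem_sup_left (mem_zpowers t))

theorem Data.se : Cfsg.IsStronglyEmbedded N := by
  obtain ⟨s, hs, hso⟩ := h.exists_invol
  have heven : Even (Nat.card N) := even_card_of_invol_mem (le_normalizer hs) hso
  rw [stronglyEmbedded_iff (fun e => h.notNormal (normalizer_eq_top_iff.1 e)) heven]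
  intro t ht hto g hg
  have htT := h.mem_T ht hto
  have hgT := h.mem_T hg (invol_conj hto g)
  have hA : ∀ a ∈ A, g * a * g⁻¹ ∈ A := by
    intro a ha
    rw [← h.centralizer_eq htT hto, mem_centralizer_singleton_iff] at ha
    rw [← h.centralizer_eq hgT (invol_conj hto g), mem_centralizer_singleton_iff]
    calc g * a * g⁻¹ * (g * t * g⁻¹) = g * (a * t) * g⁻¹ := by group
      _ = g * (t * a) * g⁻¹ := by rw [ha]
      _ = g * t * g⁻¹ * (g * a * g⁻¹) := by group
  -- `T` is the set of 2-elements of `A`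
  have hle : (T : Subgroup G).map (MulAut.conj g).toMonoidHom ≤ (T : Subgroup G) := by
    haveI : Fact (Nat.Prime 2) := ⟨Nat.prime_two⟩
    have hp : IsPGroup 2 ((T : Subgroup G).map (MulAut.conj g).toMonoidHom) := T.2.map _
    have hleN : (T : Subgroup G).map (MulAut.conj g).toMonoidHom ≤ N := by
      rintro _ ⟨v, hv, rfl⟩
      exact centralizer_le_N (hA v (T_le_A h.commT hv))
    exact le_sup_left.trans (T.3 (hp.to_sup_of_normal_right' T.2 hleN) le_sup_right).le
  refine mem_normalizer_of_conj_map_eq (eq_of_le_of_card_ge hle ?_)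
  rw [card_conj_map]

/-- There are at least two involutions in `T`. -/
theorem Data.exists_second {s : G} (hs : s ∈ (T : Subgroup G)) (hso : orderOf s = 2) :
    ∃ t ∈ (T : Subgroup G), orderOf t = 2 ∧ t ≠ s := by
  classical
  haveI : Fact (Nat.Prime 2) := ⟨Nat.prime_two⟩
  by_contra hno
  push Not at hno
  apply h.notCyclic
  haveI : IsMulCommutative (T : Subgroup G) :=
    ⟨⟨fun a b => Subtype.ext (h.commT a a.2 b b.2)⟩⟩
  haveI := Fintype.ofFinite (T : Subgroup G)
  obtain ⟨k, hk⟩ := IsPGroup.iff_card.1 T.2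
  -- at most `n` roots of `x ^ n = 1`
  refine isCyclic_of_card_pow_eq_one_le fun n hn => ?_
  have key : ∀ j : ℕ, (Finset.univ.filter fun x : (T : Subgroup G) => x ^ 2 ^ j = 1).card ≤ 2 ^ j := by
    intro j
    induction j with
    | zero => simp [Finset.filter_eq']
    | succ j ih =>
      set R : Finset (T : Subgroup G) := Finset.univ.filter fun x => x ^ 2 ^ j = 1
      set R' : Finset (T : Subgroup G) := Finset.univ.filter fun x => x ^ 2 ^ (j + 1) = 1
      have hmaps : ∀ x ∈ R', x ^ 2 ∈ R := by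
        intro x hx
        simp only [R', R, Finset.mem_filter, Finset.mem_univ, true_and] at hx ⊢
        rw [← pow_mul, ← pow_succ']; exact hx
      have hfib : ∀ y ∈ R, (R'.filter fun x => x ^ 2 = y).card ≤ 2 := by
        intro y _
        by_cases he : (R'.filter fun x => x ^ 2 = y) = ∅
        · simp [he]
        obtain ⟨x₁, hx₁⟩ := Finset.nonempty_iff_ne_empty.2 he
        refine (Finset.card_le_card (t := {x₁, x₁ * ⟨s, hs⟩}) fun x hx => ?_).trans Finset.card_le_two
        simp only [Finset.mem_filter] at hx hx₁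
        simp only [Finset.mem_insert, Finset.mem_singleton]
        by_cases e : x = x₁
        · exact Or.inl e
        refine Or.inr ?_
        have hne : (x₁⁻¹ * x : (T : Subgroup G)) ≠ 1 := fun e1 => e (inv_mul_eq_one.1 e1).symm
        have h2 : (x₁⁻¹ * x : (T : Subgroup G)) ^ 2 = 1 := by
          rw [(show Commute x₁⁻¹ x from Subtype.ext (h.commT _ (x₁⁻¹).2 _ x.2)).mul_pow, inv_pow, hx.2, hx₁.2, inv_mul_cancel]
        have ho : orderOf ((x₁⁻¹ * x : (T : Subgroup G)) : G) = 2 := by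
          rw [Subgroup.orderOf_coe]; exact orderOf_eq_prime h2 hne
        have := hno _ (x₁⁻¹ * x : (T : Subgroup G)).2 ho
        rw [← mul_inv_cancel_left x₁ x]
        congr 1
        exact Subtype.ext this
      calc R'.card ≤ 2 * R.card := Finset.card_le_mul_card_image_of_maps_to hmaps 2 hfib
        _ ≤ 2 * 2 ^ j := Nat.mul_le_mul_left 2 ih
        _ = 2 ^ (j + 1) := (pow_succ' 2 j).symm
  have hgcd : n.gcd (2 ^ k) ∣ 2 ^ k := Nat.gcd_dvd_right _ _
  obtain ⟨j, -, hj⟩ := (Nat.dvd_prime_pow Nat.prime_two).1 hgcd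
  refine le_trans (Finset.card_le_card fun x hx => ?_) ((key j).trans (hj ▸ Nat.gcd_le_left _ hn))
  simp only [Finset.mem_filter, Finset.mem_univ, true_and] at hx ⊢
  rw [← hj]
  exact orderOf_dvd_iff_pow_eq_one.1 (Nat.dvd_gcd (orderOf_dvd_of_pow_eq_one hx)
    (by rw [← hk, Nat.card_eq_fintype_card]; exact orderOf_dvd_card))

/-- `b` centralizes the involutions fixing the point `P`. -/
def Data.Cen (_h : Data T) (b : G) (P : G ⧸ N) : Prop :=
  ∀ t : G, orderOf t = 2 → t • P = P → Commute b t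

theorem Data.cen_base {b : G} : h.Cen b x₀ ↔ b ∈ A := by
  constructor
  · intro hb
    obtain ⟨s, hs, hso⟩ := h.exists_invol
    rw [← h.centralizer_eq hs hso, mem_centralizer_singleton_iff]
    exact hb s hso (fixed_one_iff.2 (le_normalizer hs))
  · intro hb t hto ht
    exact (mem_centralizer_iff.1 hb t (h.mem_T (fixed_one_iff.1 ht) hto)).symm

theorem Data.cen_smul {b : G} (g : G) {P : G ⧸ N} (hb : h.Cen b P) :
    h.Cen (g * b * g⁻¹) (g • P) := by
  intro t hto ht
  have h1 : (g⁻¹ * t * g) • P = P := by rw [mul_smul, mul_smul, ht, inv_smul_smul]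
  have h2 := hb _ (by simpa using invol_conj hto g⁻¹) h1
  show g * b * g⁻¹ * t = t * (g * b * g⁻¹)
  calc g * b * g⁻¹ * t = g * (b * (g⁻¹ * t * g)) * g⁻¹ := by group
    _ = g * ((g⁻¹ * t * g) * b) * g⁻¹ := by rw [h2.eq]
    _ = t * (g * b * g⁻¹) := by group

theorem Data.cen_of_commute {b t : G} (hto : orderOf t = 2) {P : G ⧸ N} (ht : t • P = P)
    (hc : Commute b t) : h.Cen b P := by
  obtain ⟨g, rfl⟩ := MulAction.exists_smul_eq G x₀ P
  have htN : g⁻¹ * t * g ∈ N := fixed_one_iff.1 (by rw [mul_smul, mul_smul, ht, inv_smul_smul])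
  have hto' : orderOf (g⁻¹ * t * g) = 2 := by simpa using invol_conj hto g⁻¹
  have hb : g⁻¹ * b * g ∈ A := by
    rw [← h.centralizer_eq (h.mem_T htN hto') hto', mem_centralizer_singleton_iff]
    calc g⁻¹ * b * g * (g⁻¹ * t * g) = g⁻¹ * (b * t) * g := by group
      _ = g⁻¹ * (t * b) * g := by rw [hc.eq]
      _ = g⁻¹ * t * g * (g⁻¹ * b * g) := by group
  have h1 := h.cen_smul g (h.cen_base.2 hb)
  rwa [show g * (g⁻¹ * b * g) * g⁻¹ = b by group] at h1

theorem Data.cen_fix {b : G} {P : G ⧸ N} (hb : h.Cen b P) : b • P = P := by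
  obtain ⟨t, hto, ht⟩ := exists_invol_fixing h.se P
  refine fixed_unique h.se hto ?_ ht
  rw [← mul_smul, ← (hb t hto ht).eq, mul_smul, ht]

theorem Data.cen_mul {a b : G} {P : G ⧸ N} (ha : h.Cen a P) (hb : h.Cen b P) : h.Cen (a * b) P :=
  fun t hto ht => (ha t hto ht).mul_left (hb t hto ht)

theorem Data.cen_inv {a : G} {P : G ⧸ N} (ha : h.Cen a P) : h.Cen a⁻¹ P :=
  fun t hto ht => (ha t hto ht).inv_left

/-- Involutions fixing the same point commute. -/
theorem Data.commute_fix {t t' : G} (hto : orderOf t = 2) (hto' : orderOf t' = 2) {P : G ⧸ N}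
    (ht : t • P = P) (ht' : t' • P = P) : Commute t t' :=
  h.cen_of_commute hto ht (Commute.refl t) t' hto' ht'

theorem Data.exists_fixed_point {t : G} (hto : orderOf t = 2) : ∃ P : G ⧸ N, t • P = P := by
  obtain ⟨s, hs, hso⟩ := h.exists_invol
  obtain ⟨c, rfl⟩ := isConj_iff.1 (exists_conj_fixing h.se hso hto)
  exact ⟨c • x₀, conj_fixes.2 (fixed_one_iff.2 (le_normalizer hs))⟩

theorem Data.exists_swap_to {P : G ⧸ N} (hP : P ≠ x₀) : ∃ v : G, orderOf v = 2 ∧ v • x₀ = P := by
  obtain ⟨s, hs, hso⟩ := h.exists_invol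
  have hpos : 0 < Nat.card {i : G // orderOf i = 2 ∧ i • x₀ = P} := by
    rw [card_swap_eq h.se x₀ P hP.symm]
    exact Nat.card_pos_iff.2 ⟨⟨⟨s, hso, le_normalizer hs⟩⟩, inferInstance⟩
  obtain ⟨⟨v, hv⟩⟩ := (Nat.card_pos_iff.1 hpos).1
  exact ⟨v, hv⟩

theorem Data.exists_other : ∃ P : G ⧸ N, P ≠ x₀ := by
  by_contra hno
  push Not at hno
  exact h.notNormal (normalizer_eq_top_iff.1 (top_unique fun g _ => fixed_one_iff.1 (hno (g • x₀))))

/-- Elements fixing two points have odd order. -/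
theorem Data.odd_of_fix {d : G} {P Q : G ⧸ N} (hPQ : P ≠ Q) (h1 : d • P = P) (h2 : d • Q = Q) :
    Odd (orderOf d) := by
  rw [← Nat.not_even_iff_odd]
  intro he
  exact hPQ (fixed_unique h.se (orderOf_pow_half he)
    (MulAction.mem_stabilizer_iff.1 (Subgroup.pow_mem _ (MulAction.mem_stabilizer_iff.2 h1) _))
    (MulAction.mem_stabilizer_iff.1 (Subgroup.pow_mem _ (MulAction.mem_stabilizer_iff.2 h2) _)))

theorem Data.exists_twoPoint_conj {P : G ⧸ N} (hP : P ≠ x₀) {s t : G} (hs : s ∈ (T : Subgroup G))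
    (hso : orderOf s = 2) (ht : t ∈ N) (hto : orderOf t = 2) :
    ∃ d ∈ N, d • P = P ∧ d * s * d⁻¹ = t := by
  obtain ⟨u, hu, rfl⟩ := h.exists_swap_to hP
  obtain ⟨d, hd, e⟩ := transitive_two_point h.se (u := u) hso (le_normalizer hs) ht hto
  obtain ⟨hdN, hdu⟩ := Subgroup.mem_inf.1 hd
  refine ⟨d, hdN, ?_, e⟩
  rw [Subgroup.mem_map_equiv, MulAut.conj_symm_apply, ← fixed_one_iff (H := N), mul_smul, mul_smul,
    inv_smul_eq_iff] at hdu
  exact hdu

/-- `N` is the product of a two-point stabilizer and `A`. -/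
theorem Data.exists_factor {P : G ⧸ N} (hP : P ≠ x₀) {n : G} (hn : n ∈ N) :
    ∃ d ∈ N, d • P = P ∧ ∃ a ∈ A, d * a = n := by
  obtain ⟨s, hs, hso⟩ := h.exists_invol
  obtain ⟨d, hd, hdP, e⟩ := h.exists_twoPoint_conj hP hs hso
    (mul_mem (mul_mem hn (le_normalizer hs)) (inv_mem hn)) (invol_conj hso n)
  refine ⟨d, hd, hdP, d⁻¹ * n, ?_, mul_inv_cancel_left d n⟩
  rw [← h.centralizer_eq hs hso, mem_centralizer_singleton_iff]
  calc d⁻¹ * n * s = d⁻¹ * (n * s * n⁻¹) * n := by group
    _ = d⁻¹ * (d * s * d⁻¹) * n := by rw [e]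
    _ = s * (d⁻¹ * n) := by group

/-- A two-point stabilizer is not contained in `A`. -/
theorem Data.exists_twoPoint {P : G ⧸ N} (hP : P ≠ x₀) : ∃ d ∈ N, d • P = P ∧ d ∉ A := by
  obtain ⟨s, hs, hso⟩ := h.exists_invol
  obtain ⟨t, ht, hto, hts⟩ := h.exists_second hs hso
  obtain ⟨d, hd, hdP, e⟩ := h.exists_twoPoint_conj hP hs hso (le_normalizer ht) hto
  refine ⟨d, hd, hdP, fun hdA => hts ?_⟩
  rw [← e, ← mem_centralizer_iff.1 hdA s hs, mul_inv_cancel_right]

/-- An involution swapping `x₀` and `P` and centralizing `A ∩ G_P` inverts `N_P` modulo `A`. -/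
theorem Data.inverts_mod {P : G ⧸ N} (hP : P ≠ x₀) {v : G} (hv : orderOf v = 2) (hvx : v • x₀ = P)
    (hcen : ∀ β ∈ A, β • P = P → Commute v β) {d : G} (hd : d ∈ N) (hdP : d • P = P) :
    v * d * v * d ∈ A := by
  classical
  obtain ⟨s, hs, hso⟩ := h.exists_invol
  have hsN : s ∈ N := le_normalizer hs
  have hvP : v • P = x₀ := by rw [← hvx, invol_smul_smul hv]
  have hvv := invol_mul_self hv
  have hvi : v⁻¹ = v := inv_eq_of_mul_eq_one_right hvv
  have hmem : ∀ i : {i : G // orderOf i = 2 ∧ i • x₀ = P},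
      v * i.1 ∈ N ∧ (v * i.1) • P = P := by
    intro i
    refine ⟨fixed_one_iff.1 (by rw [mul_smul, i.2.2, hvP]), ?_⟩
    have hiP : i.1 • P = x₀ :=
      (congrArg (fun Q => i.1 • Q) i.2.2).symm.trans (invol_smul_smul i.2.1 _)
    rw [mul_smul, hiP, hvx]
  have hinv : ∀ i : {i : G // orderOf i = 2 ∧ i • x₀ = P}, v * (v * i.1) * v = (v * i.1)⁻¹ := by
    intro i
    rw [mul_inv_rev, hvi, inv_eq_of_mul_eq_one_right (invol_mul_self i.2.1), ← mul_assoc, hvv, one_mul]
  let f : {i : G // orderOf i = 2 ∧ i • x₀ = P} → {t : G // orderOf t = 2 ∧ t ∈ N} := fun i =>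
    ⟨(v * i.1) * s * (v * i.1)⁻¹, invol_conj hso _,
      mul_mem (mul_mem (hmem i).1 hsN) (inv_mem (hmem i).1)⟩
  have hinj : Function.Injective f := by
    intro i j e
    have e' : (v * i.1) * s * (v * i.1)⁻¹ = (v * j.1) * s * (v * j.1)⁻¹ := congrArg Subtype.val e
    set x := v * i.1 with hx
    set y := v * j.1 with hy
    have hxv : v * x * v = x⁻¹ := hinv i
    have hyv : v * y * v = y⁻¹ := hinv j
    have hxP : x • P = P := (hmem i).2
    have hxN : x ∈ N := (hmem i).1
    have hyP : y • P = P := (hmem j).2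
    have hij : x = y → i = j := fun e => Subtype.ext (mul_left_cancel e)
    clear_value x y
    set β := x⁻¹ * y with hβ
    clear_value β
    have hβP : β • P = P := by rw [hβ, mul_smul, hyP, inv_smul_eq_iff, hxP]
    have hβA : β ∈ A := by
      rw [← h.centralizer_eq hs hso, mem_centralizer_singleton_iff]
      rw [hβ]; calc x⁻¹ * y * s = x⁻¹ * (y * s * y⁻¹) * y := by group
        _ = x⁻¹ * (x * s * x⁻¹) * y := by rw [e']
        _ = s * (x⁻¹ * y) := by group
    have hvβ := hcen β hβA hβP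
    have h1 : x⁻¹ * β = β⁻¹ * x⁻¹ := by
      calc x⁻¹ * β = (v * x * v) * β := by rw [hxv]
        _ = v * x * (β * v) := by rw [mul_assoc _ v β, hvβ.eq]
        _ = v * y * v := by rw [hβ]; group
        _ = y⁻¹ := hyv
        _ = β⁻¹ * x⁻¹ := by rw [hβ]; group
    have h2 : Commute (x ^ 2) β := by
      show x ^ 2 * β = β * x ^ 2
      have h3 : β * x = x * β⁻¹ := by
        calc β * x = x * (x⁻¹ * β) * x := by group
          _ = x * (β⁻¹ * x⁻¹) * x := by rw [h1]
          _ = x * β⁻¹ := by group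
      have h4 : β⁻¹ * x = x * β := by
        calc β⁻¹ * x = β⁻¹ * (x * β⁻¹) * β := by group
          _ = β⁻¹ * (β * x) * β := by rw [h3]
          _ = x * β := by group
      calc x ^ 2 * β = x * (x * β) := by rw [sq, mul_assoc]
        _ = x * β⁻¹ * x := by rw [← h4, mul_assoc]
        _ = β * x ^ 2 := by rw [← h3, sq, mul_assoc]
    have hxodd : Odd (orderOf x) :=
      h.odd_of_fix hP.symm (fixed_one_iff.2 hxN) hxP
    have h5 := commute_of_sq hxodd h2
    have h6 : β ^ 2 = 1 := by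
      have h7 : β = β⁻¹ := by
        apply mul_left_cancel (a := x⁻¹)
        rw [h1, (h5.inv_left.inv_right).eq]
      rw [sq]; nth_rw 2 [h7]; exact mul_inv_cancel β
    have hβ1 := eq_one_of_sq (h.odd_of_fix hP.symm
      (fixed_one_iff.2 (centralizer_le_N hβA)) hβP) h6
    rw [hβ, inv_mul_eq_one] at hβ1
    exact hij hβ1
  have hbij := (Nat.bijective_iff_injective_and_card f).2
    ⟨hinj, card_swap_eq h.se x₀ P hP.symm⟩
  obtain ⟨i, hi⟩ := hbij.2 ⟨d * s * d⁻¹, invol_conj hso d, mul_mem (mul_mem hd hsN) (inv_mem hd)⟩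
  have hi' : (v * i.1) * s * (v * i.1)⁻¹ = d * s * d⁻¹ := congrArg Subtype.val hi
  set x := v * i.1 with hx
  have hxv : v * x * v = x⁻¹ := hinv i
  have hxP : x • P = P := (hmem i).2
  have hxN : x ∈ N := (hmem i).1
  clear_value x
  set β := x⁻¹ * d with hβ
  clear_value β
  have hβP : β • P = P := by rw [hβ, mul_smul, hdP, inv_smul_eq_iff, hxP]
  have hβA : β ∈ A := by
    rw [← h.centralizer_eq hs hso, mem_centralizer_singleton_iff]
    rw [hβ]; calc x⁻¹ * d * s = x⁻¹ * (d * s * d⁻¹) * d := by group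
      _ = x⁻¹ * (x * s * x⁻¹) * d := by rw [hi']
      _ = s * (x⁻¹ * d) := by group
  have e : v * d * v * d = (x⁻¹ * β * x⁻¹⁻¹) * β := by
    have hd' : d = x * β := by rw [hβ]; group
    have hvβ := hcen β hβA hβP
    calc v * d * v * d = v * x * (β * v) * d := by rw [hd']; group
      _ = (v * x * v) * β * d := by rw [← hvβ.eq]; group
      _ = (x⁻¹ * β * x⁻¹⁻¹) * β := by rw [hxv, hd']; group
  rw [e]
  exact mul_mem (conj_mem_A (inv_mem hxN) hβA) hβA

/-- `N / A` is abelian as soon as some two-point stabilizer is inverted modulo `A`. -/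
theorem Data.mod_comm {P : G ⧸ N} (hP : P ≠ x₀) {v : G} (hv : orderOf v = 2) (hvx : v • x₀ = P)
    (hcen : ∀ β ∈ A, β • P = P → Commute v β) {n n' : G} (hn : n ∈ N) (hn' : n' ∈ N) :
    n * n' * n⁻¹ * n'⁻¹ ∈ A := by
  haveI : ((A).subgroupOf N).Normal :=
    ⟨fun a ha g => by
      rw [mem_subgroupOf] at ha ⊢
      exact conj_mem_A g.2 ha⟩
  let π := QuotientGroup.mk' ((A).subgroupOf N)
  have hvv := invol_mul_self hv
  have hvP : v • P = x₀ := by rw [← hvx, invol_smul_smul hv]
  -- conjugation by `v` on the two-point stabilizer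
  have hconj : ∀ d : N, (d : G) • P = P → v * d * v ∈ N := fun d hd =>
    fixed_one_iff.1 (by rw [mul_smul, mul_smul, hvx, hd, hvP])
  have hkey : ∀ d : N, ∀ hd : (d : G) • P = P, π ⟨v * d * v, hconj d hd⟩ = (π d)⁻¹ := by
    intro d hd
    refine eq_inv_of_mul_eq_one_left ?_
    rw [← map_mul, QuotientGroup.mk'_apply, QuotientGroup.eq_one_iff, mem_subgroupOf]
    exact h.inverts_mod hP hv hvx hcen d.2 hd
  have hD : ∀ d d' : N, (d : G) • P = P → (d' : G) • P = P → π d * π d' = π d' * π d := by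
    intro d d' hd hd'
    have hdd : ((d * d' : N) : G) • P = P := by rw [Subgroup.coe_mul, mul_smul, hd', hd]
    have h1 := hkey _ hdd
    have h2 : (⟨v * (d * d' : N) * v, hconj _ hdd⟩ : N) = ⟨v * d * v, hconj d hd⟩ * ⟨v * d' * v, hconj d' hd'⟩ := by
      apply Subtype.ext
      show v * ((d : G) * d') * v = v * d * v * (v * d' * v)
      calc v * ((d : G) * d') * v = v * d * (v * v) * d' * v := by rw [hvv]; group
        _ = v * d * v * (v * d' * v) := by group
    rw [h2, map_mul, hkey d hd, hkey d' hd', map_mul, mul_inv_rev] at h1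
    have h3 := congrArg (fun z => z⁻¹) h1
    simp only [mul_inv_rev, inv_inv] at h3
    exact h3.symm
  obtain ⟨d, hd, hdP, a, ha, e⟩ := h.exists_factor hP hn
  obtain ⟨d', hd', hdP', a', ha', e'⟩ := h.exists_factor hP hn'
  have hπA : ∀ (g : G) (hg : g ∈ A), π ⟨g, centralizer_le_N hg⟩ = 1 := fun g hg => by
    rw [QuotientGroup.mk'_apply, QuotientGroup.eq_one_iff, mem_subgroupOf]; exact hg
  have en : (⟨n, hn⟩ : N) = ⟨d, hd⟩ * ⟨a, centralizer_le_N ha⟩ := Subtype.ext e.symm
  have en' : (⟨n', hn'⟩ : N) = ⟨d', hd'⟩ * ⟨a', centralizer_le_N ha'⟩ := Subtype.ext e'.symm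
  have h4 : π (⟨n, hn⟩ * ⟨n', hn'⟩ * ⟨n, hn⟩⁻¹ * ⟨n', hn'⟩⁻¹) = 1 := by
    simp only [map_mul, map_inv]
    rw [en, en', map_mul, map_mul, hπA a ha, hπA a' ha', mul_one, mul_one, hD _ _ hdP hdP']
    group
  rw [QuotientGroup.mk'_apply, QuotientGroup.eq_one_iff, mem_subgroupOf] at h4
  exact h4

end CfsgLib.AbCent
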