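import Cfsg.Agent.Lib.Invol.AbelianCent.Two
import Mathlib.GroupTheory.Perm.Cycle.Type

/-!
# Abelian involution centralizers: elements centralizing the involutions of two points are central

The inductive hypotheses say that for such an element `a` the odd part of `A` is central in `C(a)`,
and that commuting elements of odd prime order of `C(a)` are dependent modulo the centre.
-/

set_option autoImplicit false
set_option linter.unusedSectionVars false

namespace CfsgLib.AbCent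

open Subgroup MulAction CfsgLib.Invol

universe u

variable {G : Type u} [Group G] [Finite G] {T : Sylow 2 G} (h : Data T)

local notation "N" => normalizer ((T : Subgroup G) : Set G)
local notation "A" => centralizer ((T : Subgroup G) : Set G)
local notation "x₀" => ((1 : G) : G ⧸ normalizer ((T : Subgroup G) : Set G))

/-- The odd part of `A` is central in `C(a)` when `a` centralizes the involutions of two points. -/
def Data.OddCentral : Prop :=
  ∀ a ∈ A, a ≠ 1 → ∀ P : G ⧸ N, P ≠ x₀ → h.Cen a P → ∀ β ∈ A, Odd (orderOf β) →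
    ∀ g : G, Commute g a → Commute g β

/-- Commuting elements of odd prime order of `C(a)` are dependent modulo its centre. -/
def Data.Dependent : Prop :=
  ∀ a ∈ A, a ≠ 1 → ∀ P : G ⧸ N, P ≠ x₀ → h.Cen a P → ∀ r : ℕ, r.Prime → r ≠ 2 →
    ∀ β γ : G, β ^ r = 1 → γ ^ r = 1 → Commute β γ → Commute β a → Commute γ a →
      (∀ g : G, Commute g a → Commute g γ) ∨
        ∃ i : ℕ, ∀ g : G, Commute g a → Commute g (β * (γ ^ i)⁻¹)

section

variable {a : G}

include h

theorem Data.comm_N {P : G ⧸ N} (ha : a ∈ A) (hP : P ≠ x₀) (hcen : h.Cen a P) {n : G} (hn : n ∈ N) :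
    Commute n a := by
  obtain ⟨s, hs, hso⟩ := h.exists_invol
  obtain ⟨u, hu, huP⟩ := exists_invol_fixing h.se P
  have hsx : s • x₀ = x₀ := fixed_one_iff.2 (le_normalizer hs)
  have hto := invol_conj hso n
  have htN : n * s * n⁻¹ ∈ N := mul_mem (mul_mem hn (le_normalizer hs)) (inv_mem hn)
  have htx : (n * s * n⁻¹) • x₀ = x₀ := fixed_one_iff.2 htN
  have hsa : Commute s a := (h.cen_base.2 ha s hso hsx).symm
  have hta : Commute (n * s * n⁻¹) a := (h.cen_base.2 ha _ hto htx).symm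
  have hua : Commute u a := (hcen u hu huP).symm
  obtain ⟨d₁, hd₁, e₁⟩ := exists_conj_eq_of_odd hso hu (odd_mul_of_fix_ne h.se hso hu hsx huP hP.symm)
  obtain ⟨d₂, hd₂, e₂⟩ := exists_conj_eq_of_odd hto hu (odd_mul_of_fix_ne h.se hto hu htx huP hP.symm)
  obtain ⟨i, rfl⟩ := hd₁
  obtain ⟨j, rfl⟩ := hd₂
  set d₁ := (s * u) ^ i with hd₁
  set d₂ := (n * s * n⁻¹ * u) ^ j with hd₂
  have hk : Commute (d₂⁻¹ * d₁) a :=
    ((hta.mul_left hua).zpow_left j).inv_left.mul_left ((hsa.mul_left hua).zpow_left i)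
  have e3 : (d₂⁻¹ * d₁) * s * (d₂⁻¹ * d₁)⁻¹ = n * s * n⁻¹ := by
    calc (d₂⁻¹ * d₁) * s * (d₂⁻¹ * d₁)⁻¹ = d₂⁻¹ * (d₁ * s * d₁⁻¹) * d₂ := by group
      _ = d₂⁻¹ * (d₂ * (n * s * n⁻¹) * d₂⁻¹) * d₂ := by rw [e₁, e₂]
      _ = n * s * n⁻¹ := by group
  have hA : (d₂⁻¹ * d₁)⁻¹ * n ∈ A := by
    rw [← h.centralizer_eq hs hso, mem_centralizer_singleton_iff]
    calc (d₂⁻¹ * d₁)⁻¹ * n * s = (d₂⁻¹ * d₁)⁻¹ * (n * s * n⁻¹) * n := by group
      _ = (d₂⁻¹ * d₁)⁻¹ * ((d₂⁻¹ * d₁) * s * (d₂⁻¹ * d₁)⁻¹) * n := by rw [e3]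
      _ = s * ((d₂⁻¹ * d₁)⁻¹ * n) := by group
  have := hk.mul_left (show Commute ((d₂⁻¹ * d₁)⁻¹ * n) a from h.commA _ hA a ha)
  rwa [mul_inv_cancel_left] at this

theorem Data.swap_comm {P : G ⧸ N} (ha : a ∈ A) (hP : P ≠ x₀) (hcen : h.Cen a P) {v : G} (hvx : v • x₀ = P) :
    Commute v a := by
  obtain ⟨s, hs, hso⟩ := h.exists_invol
  obtain ⟨u, hu, huP⟩ := exists_invol_fixing h.se P
  have hsx : s • x₀ = x₀ := fixed_one_iff.2 (le_normalizer hs)
  obtain ⟨d, hd, e⟩ := exists_conj_eq_of_odd hso hu (odd_mul_of_fix_ne h.se hso hu hsx huP hP.symm)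
  obtain ⟨i, rfl⟩ := hd
  have hdx : (s * u) ^ i • x₀ = P := by
    refine fixed_unique h.se hu ?_ huP
    nth_rw 1 [← e]
    exact conj_fixes.2 hsx
  have hn : ((s * u) ^ i)⁻¹ * v ∈ N := fixed_one_iff.1 (by rw [mul_smul, hvx, ← hdx, inv_smul_smul])
  have hsa : Commute s a := (h.cen_base.2 ha s hso hsx).symm
  have hua : Commute u a := (hcen u hu huP).symm
  have := ((hsa.mul_left hua).zpow_left i).mul_left (h.comm_N ha hP hcen hn)
  rwa [mul_inv_cancel_left] at this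

theorem Data.central_of_all {P : G ⧸ N} (ha : a ∈ A) (hP : P ≠ x₀) (hcen : h.Cen a P)
    (hall : ∀ Q : G ⧸ N, h.Cen a Q) : a ∈ center G := by
  rw [mem_center_iff]
  intro g
  rcases eq_or_ne (g • x₀) x₀ with e | e
  · exact (h.comm_N ha hP hcen (fixed_one_iff.1 e)).eq
  · obtain ⟨v, hv, hvx⟩ := h.exists_swap_to e
    have hn : v⁻¹ * g ∈ N := fixed_one_iff.1 (by rw [mul_smul, ← hvx, inv_smul_smul])
    have := (h.swap_comm ha e (hall _) hvx).mul_left (h.comm_N ha hP hcen hn)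
    rw [mul_inv_cancel_left] at this
    exact this.eq

end

variable (hC : h.OddCentral)

include h hC

theorem Data.cen_odd {a : G} {P : G ⧸ N} (ha : a ∈ A) (ha1 : a ≠ 1) (hP : P ≠ x₀)
    (hcen : h.Cen a P) {β : G} (hβ : β ∈ A) (hodd : Odd (orderOf β)) : h.Cen β P :=
  fun t hto ht => (hC a ha ha1 P hP hcen β hβ hodd t (hcen t hto ht).symm).symm

theorem Data.swap_cen_all {a : G} {P : G ⧸ N} (ha : a ∈ A) (ha1 : a ≠ 1) (hP : P ≠ x₀)
    (hcen : h.Cen a P) {v : G} (hvx : v • x₀ = P) :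
    ∀ β ∈ A, β • P = P → Commute v β := fun β hβ hβP =>
  hC a ha ha1 P hP hcen β hβ
    (h.odd_of_fix hP hβP (fixed_one_iff.2 (centralizer_le_N hβ))) v (h.swap_comm ha hP hcen hvx)

theorem Data.mod_comm_of_cen {a : G} {P : G ⧸ N} (ha : a ∈ A) (ha1 : a ≠ 1) (hP : P ≠ x₀)
    (hcen : h.Cen a P) {n n' : G} (hn : n ∈ N) (hn' : n' ∈ N) : n * n' * n⁻¹ * n'⁻¹ ∈ A := by
  obtain ⟨v, hv, hvx⟩ := h.exists_swap_to hP
  exact h.mod_comm hP hv hvx (h.swap_cen_all hC ha ha1 hP hcen hvx) hn hn'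

/-- The case of an element of `A` fixing a point without centralizing its involutions. -/
theorem Data.false_of_fixed (hdep : h.Dependent) {b : G} {r : ℕ} (hb : b ∈ A) (hr : r.Prime)
    (hr2 : r ≠ 2) (hbo : orderOf b = r) {P₁ : G ⧸ N} (hP₁ : P₁ ≠ x₀) (hcen : h.Cen b P₁)
    {y : G ⧸ N} (hy : y ≠ x₀) (hby : b • y = y) (hnc : ¬ h.Cen b y) : False := by
  classical
  have hb1 : b ≠ 1 := fun e => by rw [e, orderOf_one] at hbo; exact hr.one_lt.ne hbo
  have hbr : b ^ r = 1 := hbo ▸ pow_orderOf_eq_one b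
  have hrodd : Odd r := hr.odd_of_ne_two hr2
  have hoddb : Odd (orderOf b) := hbo.symm ▸ hrodd
  obtain ⟨u, hu, hux⟩ := h.exists_swap_to hy
  have huu := invol_mul_self hu
  have hui : u⁻¹ = u := invol_inv hu
  have huy : u • y = x₀ := by rw [← hux, invol_smul_smul hu]
  set b' := u * b * u⁻¹ with hb'
  have hcen' : h.Cen b' y := by
    have := h.cen_smul u (h.cen_base.2 hb)
    rwa [hux] at this
  have hb'x : b' • x₀ = x₀ := by rw [hb', mul_smul, mul_smul, hui, hux, hby, huy]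
  have hb'N : b' ∈ N := fixed_one_iff.1 hb'x
  have hb'r : b' ^ r = 1 := by rw [hb', conj_pow, hbr, mul_one, mul_inv_cancel]
  have hb'odd : Odd (orderOf b') := hrodd.of_dvd_nat (orderOf_dvd_of_pow_eq_one hb'r)
  have hb'1 : b' ≠ 1 := fun e => hb1 (conj_eq_one_iff.1 e)
  have hb'A : b' ∉ A := by
    intro hb'A
    refine hnc fun t hto ht => ?_
    exact (hC b' hb'A hb'1 y hy hcen' b hb hoddb t (hcen' t hto ht).symm).symm
  have hb'b : Commute b' b := h.comm_N hb hP₁ hcen hb'N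
  -- the orbit of `P₁` under `A`
  obtain ⟨s₀, hs₀, hs₀o⟩ := h.exists_invol
  set O := MulAction.orbit A P₁ with hO
  have hb'O : ∀ Q : G ⧸ N, Q ∈ O → b' • Q ∈ O := by
    rintro Q ⟨⟨a, ha⟩, rfl⟩
    obtain ⟨c, hc, -, hcP⟩ := factorization h.se hs₀o (le_normalizer hs₀) (y := P₁) hb'N
    have hcA : c ∈ A := by
      rw [← h.centralizer_eq hs₀ hs₀o, mem_centralizer_singleton_iff]; exact hc.eq
    refine ⟨⟨b' * a * b'⁻¹ * c⁻¹, mul_mem (conj_mem_A hb'N ha) (inv_mem hcA)⟩, ?_⟩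
    show (b' * a * b'⁻¹ * c⁻¹) • P₁ = b' • (a • P₁)
    have e1 : c⁻¹ • P₁ = b' • P₁ := inv_smul_eq_iff.2 hcP.symm
    calc (b' * a * b'⁻¹ * c⁻¹) • P₁ = (b' * a * b'⁻¹) • (c⁻¹ • P₁) := mul_smul _ _ _
      _ = b' • (a • P₁) := by rw [e1, ← mul_smul, inv_mul_cancel_right, mul_smul]
  let σ : Equiv.Perm O := Equiv.ofBijective (fun Q => ⟨b' • (Q : G ⧸ N), hb'O _ Q.2⟩)
    (Finite.injective_iff_bijective.1 fun Q Q' e => Subtype.ext
      (smul_left_cancel b' (congrArg Subtype.val e)))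
  have hσ : ∀ (k : ℕ) (Q : O), (((σ ^ k) Q : O) : G ⧸ N) = b' ^ k • (Q : G ⧸ N) := by
    intro k
    induction k with
    | zero => intro Q; simp
    | succ k ih =>
      intro Q
      rw [pow_succ', pow_succ', Equiv.Perm.mul_apply, mul_smul, ← ih Q]
      rfl
  haveI := Fintype.ofFinite O
  haveI hfr : Fact r.Prime := ⟨hr⟩
  have hσr : σ ^ r ^ 1 = 1 := by
    ext Q
    rw [pow_one, hσ, hb'r, one_smul]
    rfl
  have hOcard : ¬ r ∣ Fintype.card O := by
    haveI : Fact (Nat.Prime 2) := ⟨Nat.prime_two⟩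
    haveI : IsMulCommutative A := ⟨⟨fun a b => Subtype.ext (h.commA a a.2 b b.2)⟩⟩
    set S := MulAction.stabilizer A P₁ with hS
    have hp : IsPGroup 2 (A ⧸ S) := by
      intro q
      obtain ⟨⟨a, ha⟩, rfl⟩ := QuotientGroup.mk_surjective q
      obtain ⟨k, m, hm, e⟩ := Nat.exists_eq_two_pow_mul_odd (orderOf_pos a).ne'
      refine ⟨k, ?_⟩
      rw [← QuotientGroup.mk_pow, QuotientGroup.eq_one_iff, hS, MulAction.mem_stabilizer_iff]
      show (a ^ 2 ^ k) • P₁ = P₁
      refine h.cen_fix (h.cen_odd hC hb hb1 hP₁ hcen (pow_mem ha _) ?_)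
      rw [orderOf_pow_of_dvd (pow_ne_zero _ two_ne_zero) ⟨m, e⟩, e,
        Nat.mul_div_cancel_left _ (pow_pos two_pos k)]
      exact hm
    obtain ⟨k, hk⟩ := IsPGroup.iff_card.1 hp
    rw [← Nat.card_eq_fintype_card, hO,
      Nat.card_congr (MulAction.orbitEquivQuotientStabilizer A P₁), hk]
    intro hdvd
    exact hr2 ((Nat.prime_dvd_prime_iff_eq hr Nat.prime_two).1 (hr.dvd_of_dvd_pow hdvd))
  obtain ⟨Q₀, hQ₀⟩ := Equiv.Perm.exists_fixed_point_of_prime hOcard hσr
  obtain ⟨⟨a, ha⟩, ha'⟩ := Q₀.2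
  set P₂ := (Q₀ : G ⧸ N) with hP₂'
  have ha'' : a • P₁ = P₂ := ha'
  have hb'P₂ : b' • P₂ = P₂ := congrArg Subtype.val hQ₀
  have hax : a • x₀ = x₀ := fixed_one_iff.2 (centralizer_le_N ha)
  have hP₂ : P₂ ≠ x₀ := fun e => hP₁ (smul_left_cancel a (ha''.trans (e.trans hax.symm)))
  have hcen₂ : h.Cen b P₂ := by
    have := h.cen_smul a hcen
    rwa [ha'', show a * b * a⁻¹ = b by rw [h.commA a ha b hb, mul_inv_cancel_right]] at this
  -- the triangle `x₀`, `P₂`, `u P₂`
  set y' := u • P₂ with hy'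
  have huy' : u • y' = P₂ := invol_smul_smul hu P₂
  have hy'x : y' ≠ x₀ := by
    intro e
    apply hnc
    rw [← hux]
    have : P₂ = u • x₀ := by rw [← e, huy']
    rw [← this]; exact hcen₂
  obtain ⟨v, hv, hvx⟩ := h.exists_swap_to hy'x
  obtain ⟨s, hs, hsx⟩ := h.exists_swap_to hP₂
  have hvy : v • y' = x₀ := by rw [← hvx, invol_smul_smul hv]
  have hsP : s • P₂ = x₀ := by rw [← hsx, invol_smul_smul hs]
  have hvi : v⁻¹ = v := invol_inv hv
  have hsb : Commute s b := h.swap_comm hb hP₂ hcen₂ hsx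
  -- `v b v` is a power of `b'`
  set β := s * (u * (v * b * v⁻¹) * u⁻¹) * s⁻¹ with hβ
  have hβcen : h.Cen β x₀ := by
    have h1 := h.cen_smul v (h.cen_base.2 hb)
    rw [hvx] at h1
    have h2 := h.cen_smul s (h.cen_smul u h1)
    rwa [huy', hsP] at h2
  have hβA : β ∈ A := h.cen_base.1 hβcen
  have hβr : β ^ r = 1 := by simp [hβ, hbr]
  have hβodd : Odd (orderOf β) := hrodd.of_dvd_nat (orderOf_dvd_of_pow_eq_one hβr)
  have hβb' : Commute β b' := (hC b hb hb1 P₁ hP₁ hcen β hβA hβodd b' hb'b).symm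
  obtain ⟨i, hi⟩ : ∃ i : ℕ, β = b ^ i := by
    have hc1 : Commute (u * β * u⁻¹) b := by
      have := hβb'.map (MulAut.conj u).toMonoidHom
      simp only [MulEquiv.coe_toMonoidHom, MulAut.conj_apply] at this
      rwa [hb', show u * (u * b * u⁻¹) * u⁻¹ = b by
        rw [hui]; simp only [mul_assoc, huu, mul_one]; rw [← mul_assoc, huu, one_mul]] at this
    have hc2 : Commute (u * β * u⁻¹) b' := by
      have hβb : Commute β b := h.commA β hβA b hb
      have := hβb.map (MulAut.conj u).toMonoidHom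
      simpa only [MulEquiv.coe_toMonoidHom, MulAut.conj_apply] using this
    have hur : (u * β * u⁻¹) ^ r = 1 := by rw [conj_pow, hβr, mul_one, mul_inv_cancel]
    rcases hdep b hb hb1 P₁ hP₁ hcen r hr hr2 _ b' hur hb'r hc2 hc1 hb'b with hc | ⟨i, hc⟩
    · exfalso
      apply hb'A
      refine mem_centralizer_iff.2 fun t ht => (hc t ?_).eq
      exact mem_centralizer_iff.1 hb t ht
    · refine ⟨i, ?_⟩
      set δ := u * β * u⁻¹ * (b' ^ i)⁻¹ with hδ
      have hδA : δ ∈ A := mem_centralizer_iff.2 fun t ht =>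
        (hc t (mem_centralizer_iff.1 hb t ht)).eq
      set δ' := β * (b ^ i)⁻¹ with hδ'
      have hδ'A : δ' ∈ A := mul_mem hβA (inv_mem (pow_mem hb i))
      have hconj : u * δ * u⁻¹ = δ' := by
        rw [hδ, hδ', hb', conj_pow]
        simp only [mul_inv_rev, inv_inv, hui, mul_assoc]
        simp only [huu, mul_one]
        try simp only [← mul_assoc, huu, one_mul]
      by_contra hne
      have hδ'1 : δ' ≠ 1 := fun e => hne (mul_inv_eq_one.1 e)
      have hδ'cen : h.Cen δ' y := by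
        have := h.cen_smul u (h.cen_base.2 hδA)
        rwa [hux, hconj] at this
      exact hnc (h.cen_odd hC hδ'A hδ'1 hy hδ'cen hb hoddb)
  have hvbv : v * b * v⁻¹ = b' ^ i := by
    have h1 : u * (v * b * v⁻¹) * u⁻¹ = b ^ i := by
      calc u * (v * b * v⁻¹) * u⁻¹ = s⁻¹ * β * s := by rw [hβ]; group
        _ = b ^ i := by rw [hi, mul_assoc, ← (hsb.pow_right i).eq, inv_mul_cancel_left]
    rw [hb', conj_pow, ← h1, hui]
    simp only [mul_assoc, huu, mul_one]
    rw [← mul_assoc u u, huu, one_mul]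
  have hub' : u * b' * u⁻¹ = b := by
    rw [hb', hui]
    simp only [mul_assoc, huu, mul_one]
    rw [← mul_assoc, huu, one_mul]
  set n := s * u * v with hn
  have hnN : n ∈ N := fixed_one_iff.1 (by rw [hn, mul_smul, mul_smul, hvx, huy', hsP])
  have hbi : b ^ i = b := by
    have h1 : n * b * n⁻¹ = b ^ i := by
      calc n * b * n⁻¹ = s * (u * (v * b * v⁻¹) * u⁻¹) * s⁻¹ := by rw [hn]; group
        _ = b ^ i := by rw [hvbv, ← conj_pow, hub', (hsb.pow_right i).eq, mul_inv_cancel_right]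
    rw [← h1, (h.comm_N hb hP₁ hcen hnN).eq, mul_inv_cancel_right]
  have hvb : v * b * v⁻¹ = b' := by
    rw [hvbv, hb', conj_pow, hbi]
  have hvb' : v * b' * v⁻¹ = b := by
    rw [← hvb, hvi]
    calc v * (v * b * v) * v = (v * v) * b * (v * v) := by group
      _ = b := by rw [invol_mul_self hv, one_mul, mul_one]
  have hnb' : n * b' * n⁻¹ = s * b' * s⁻¹ := by
    calc n * b' * n⁻¹ = s * (u * (v * b' * v⁻¹) * u⁻¹) * s⁻¹ := by rw [hn]; group
      _ = s * b' * s⁻¹ := by rw [hvb']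
  have h1 : s * b' * s * b' ∈ A :=
    h.inverts_mod hP₂ hs hsx (h.swap_cen_all hC hb hb1 hP₂ hcen₂ hsx) hb'N hb'P₂
  have h2 := h.mod_comm_of_cen hC hb hb1 hP₁ hcen hnN hb'N
  rw [hnb', invol_inv hs] at h2
  have h3 : b' ^ 2 ∈ A := by
    have := mul_mem (inv_mem h2) h1
    rwa [show (s * b' * s * b'⁻¹)⁻¹ * (s * b' * s * b') = b' ^ 2 by
      simp only [mul_inv_rev, inv_inv, invol_inv hs, mul_assoc]
      rw [← mul_assoc s s, invol_mul_self hs, one_mul, ← mul_assoc b'⁻¹, inv_mul_cancel, one_mul,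
        ← mul_assoc s s, invol_mul_self hs, one_mul, sq]] at this
  exact hb'A (mem_of_sq_mem hb'odd h3)

/-- Without central elements in `A`, conjugates of `A` have trivial intersection. -/
theorem Data.trivInter (hdep : h.Dependent) (hz : ∀ a ∈ A, a ≠ 1 → Odd (orderOf a) → a ∉ center G) :
    h.IsTrivInter := by
  intro P hP a ha hcen
  by_contra ha1
  have haP := h.cen_fix hcen
  have hodd : Odd (orderOf a) := h.odd_of_fix hP haP (fixed_one_iff.2 (centralizer_le_N ha))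
  by_cases hfix : ∃ y : G ⧸ N, ¬ h.Cen a y ∧ ∃ b ∈ A, b ≠ 1 ∧ b • y = y
  · obtain ⟨y, hny, b₀, hb₀, hb₀1, hb₀y⟩ := hfix
    have hy : y ≠ x₀ := fun e => hny (e ▸ h.cen_base.2 ha)
    have hodd₀ := h.odd_of_fix hy hb₀y (fixed_one_iff.2 (centralizer_le_N hb₀))
    obtain ⟨r, hr, hdvd⟩ := Nat.exists_prime_and_dvd (mt orderOf_eq_one_iff.1 hb₀1)
    set b := b₀ ^ (orderOf b₀ / r) with hb
    have hbo : orderOf b = r := by
      rw [hb, orderOf_pow_of_dvd
        (Nat.div_pos (Nat.le_of_dvd (orderOf_pos _) hdvd) hr.pos).ne' (Nat.div_dvd_of_dvd hdvd),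
        Nat.div_div_self hdvd (orderOf_pos _).ne']
    have hr2 : r ≠ 2 := fun e => Nat.not_even_iff_odd.2 hodd₀ (even_iff_two_dvd.2 (e ▸ hdvd))
    have hbA : b ∈ A := pow_mem hb₀ _
    have hb1 : b ≠ 1 := fun e => by rw [e, orderOf_one] at hbo; exact hr.one_lt.ne hbo
    have hboddo : Odd (orderOf b) := hbo.symm ▸ hr.odd_of_ne_two hr2
    have hbP : h.Cen b P := h.cen_odd hC ha ha1 hP hcen hbA hboddo
    refine h.false_of_fixed hC hdep hbA hr hr2 hbo hP hbP hy
      (MulAction.mem_stabilizer_iff.1 (Subgroup.pow_mem _ (MulAction.mem_stabilizer_iff.2 hb₀y) _))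
      fun hc => hny fun t hto ht => ?_
    exact (hC b hbA hb1 P hP hbP a ha hodd t (hc t hto ht).symm).symm
  · push Not at hfix
    obtain ⟨y, hny⟩ : ∃ y : G ⧸ N, ¬ h.Cen a y := by
      by_contra hno
      push Not at hno
      exact hz a ha ha1 hodd (h.central_of_all ha hP hcen hno)
    have hy : y ≠ x₀ := fun e => hny (e ▸ h.cen_base.2 ha)
    obtain ⟨u, hu, hux⟩ := h.exists_swap_to hy
    have huy : u • y = x₀ := by rw [← hux, invol_smul_smul hu]
    have hui : u⁻¹ = u := invol_inv hu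
    have huu := invol_mul_self hu
    set c := u * a * u⁻¹ with hc
    have hcx : c • x₀ ≠ x₀ := by
      intro e
      rw [hc, mul_smul, mul_smul, hui, hux] at e
      have : a • y = y := smul_left_cancel u (e.trans huy.symm)
      exact hfix y hny a ha ha1 this
    set P' := c • x₀ with hP'
    obtain ⟨d, hd, hdy, hdA⟩ := h.exists_twoPoint hy
    have hdc : Commute d c := by
      have hd' : u * d * u ∈ N := fixed_one_iff.1 (by rw [mul_smul, mul_smul, hux, hdy, huy])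
      have h1 := (h.comm_N ha hP hcen hd').map (MulAut.conj u).toMonoidHom
      simp only [MulEquiv.coe_toMonoidHom, MulAut.conj_apply] at h1
      rwa [show u * (u * d * u) * u⁻¹ = d by
        rw [hui]; simp only [mul_assoc, huu, mul_one]; rw [← mul_assoc, huu, one_mul]] at h1
    have hdP' : d • P' = P' := by rw [hP', ← mul_smul, hdc.eq, mul_smul, fixed_one_iff.2 hd]
    obtain ⟨v, hv, hvx⟩ := h.exists_swap_to hcx
    have hvcen : ∀ β ∈ A, β • P' = P' → Commute v β := by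
      by_cases hc' : h.Cen a P'
      · exact h.swap_cen_all hC ha ha1 hcx hc' hvx
      · intro β hβ hβP
        by_cases hβ1 : β = 1
        · rw [hβ1]; exact Commute.one_right v
        · exact absurd hβP (hfix P' hc' β hβ hβ1)
    have h1 := h.inverts_mod hcx hv hvx hvcen hd hdP'
    have hnN : v * c ∈ N := fixed_one_iff.1 (by
      rw [mul_smul, ← hP', ← hvx, invol_smul_smul hv])
    have h2 := h.mod_comm_of_cen hC ha ha1 hP hcen hnN hd
    rw [show v * c * d * (v * c)⁻¹ = v * d * v by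
      rw [mul_inv_rev, invol_inv hv, mul_assoc v c d, ← hdc.eq]; group] at h2
    have h3 : d ^ 2 ∈ A := by
      have := mul_mem (inv_mem h2) h1
      rwa [show (v * d * v * d⁻¹)⁻¹ * (v * d * v * d) = d ^ 2 by
        simp only [mul_inv_rev, inv_inv, invol_inv hv, mul_assoc]
        rw [← mul_assoc v v, invol_mul_self hv, one_mul, ← mul_assoc d⁻¹, inv_mul_cancel, one_mul,
          ← mul_assoc v v, invol_mul_self hv, one_mul, sq]] at this
    exact hdA (mem_of_sq_mem (h.odd_of_fix hy hdy (fixed_one_iff.2 hd)) h3)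

end CfsgLib.AbCent
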