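import Cfsg.Agent.Lib.Invol.AbelianCent.Basic

/-!
# Abelian involution centralizers: the case of trivial intersection

If no non-identity element of `A = C(T)` centralizes the involutions of a second point, then
`A` acts regularly on the other points and two-point stabilizers fix exactly two points.
-/

set_option autoImplicit false
set_option linter.unusedSectionVars false

namespace CfsgLib.AbCent

open Subgroup MulAction CfsgLib.Invol

universe u

variable {G : Type u} [Group G] [Finite G] {T : Sylow 2 G} (h : Data T)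

local notation "N" => normalizer ((T : Subgroup G) : Set G)
local notation "A" => centralizer ((T : Subgroup G) : Set G)
local notation "x₀" => ((1 : G) : G ⧸ normalizer ((T : Subgroup G) : Set G))

/-- No non-identity element of `A` centralizes the involutions of another point. -/
def Data.IsTrivInter : Prop := ∀ P : G ⧸ N, P ≠ x₀ → ∀ a ∈ A, h.Cen a P → a = 1

variable (hTI : h.IsTrivInter)

include h hTI

/-- An element centralizing the involutions of two points is trivial. -/
theorem Data.ti_eq_one {c : G} {P Q : G ⧸ N} (hPQ : P ≠ Q) (h1 : h.Cen c P) (h2 : h.Cen c Q) :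
    c = 1 := by
  obtain ⟨g, rfl⟩ := MulAction.exists_smul_eq G x₀ P
  have h1' := h.cen_smul g⁻¹ h1
  have h2' := h.cen_smul g⁻¹ h2
  rw [inv_smul_smul] at h1'
  have hne : g⁻¹ • Q ≠ x₀ := fun e => hPQ (by rw [← e, smul_inv_smul])
  have := hTI _ hne _ (h.cen_base.1 h1') h2'
  rw [inv_inv] at this
  calc c = g * (g⁻¹ * c * g) * g⁻¹ := by group
    _ = 1 := by rw [this]; group

/-- `A` acts semiregularly on the other points. -/
theorem Data.semireg {b : G} (hb : b ∈ A) {P : G ⧸ N} (hP : P ≠ x₀) (hbP : b • P = P) : b = 1 := by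
  by_contra hb1
  obtain ⟨u, hu, hux⟩ := h.exists_swap_to hP
  have huP : u • P = x₀ := by rw [← hux, invol_smul_smul hu]
  have huu := invol_mul_self hu
  have hui : u⁻¹ = u := inv_eq_of_mul_eq_one_right huu
  have hbx : b • x₀ = x₀ := fixed_one_iff.2 (centralizer_le_N hb)
  set b' := u * b * u⁻¹ with hb'
  have hcen : h.Cen b' P := by
    have := h.cen_smul u (h.cen_base.2 hb)
    rwa [hux] at this
  have hb'x : b' • x₀ = x₀ := by rw [hb', mul_smul, mul_smul, hui, hux, hbP, huP]
  have hb'N : b' ∈ N := fixed_one_iff.1 hb'x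
  -- `b` and `b'` commute
  have hcomm : Commute b b' := by
    have k1 : b * b' * b⁻¹ * b'⁻¹ ∈ A := by
      have := mul_mem hb (conj_mem_A hb'N (inv_mem hb))
      rwa [show b * (b' * b⁻¹ * b'⁻¹) = b * b' * b⁻¹ * b'⁻¹ by group] at this
    have k2 : h.Cen (b * b' * b⁻¹ * b'⁻¹) P := by
      have := h.cen_mul (h.cen_smul b hcen) (h.cen_inv (hbP.symm ▸ hcen))
      rwa [hbP] at this
    have k3 := hTI P hP _ k1 k2
    show b * b' = b' * b
    calc b * b' = (b * b' * b⁻¹ * b'⁻¹) * (b' * b) := by group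
      _ = b' * b := by rw [k3, one_mul]
  set c := b * b' with hc
  set x := b * b'⁻¹ with hx
  have hcan : ∀ z : G, u * (u * z) = z := fun z => by rw [← mul_assoc, huu, one_mul]
  have hbb : b * (u * (b * u)) = u * (b * (u * b)) := by
    have := hcomm.eq
    rw [hb', hui] at this
    simpa only [mul_assoc] using this
  have hcu : Commute c u := by
    show c * u = u * c
    rw [hc, hb', hui]
    simp only [mul_assoc, huu, mul_one]
    calc b * (u * b) = b * (u * (b * u)) * u := by simp only [mul_assoc, huu, mul_one]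
      _ = u * (b * (u * (b * u))) := by
        rw [hbb]; simp only [mul_assoc, hcan]
        rw [hbb, hcan]
  have hxinv : u * x * u = x⁻¹ := by
    rw [hx, hb', hui]
    simp only [mul_inv_rev, inv_inv, hui, mul_assoc, huu, mul_one]
  have hc1 : c ≠ 1 := by
    intro e
    rw [hc, mul_eq_one_iff_eq_inv] at e
    exact hb1 (hTI P hP b hb (e ▸ h.cen_inv hcen))
  have hx1 : x ≠ 1 := by
    intro e
    rw [hx, mul_inv_eq_one] at e
    exact hb1 (hTI P hP b hb (e ▸ hcen))
  have hxP : x • P = P := by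
    rw [hx, mul_smul, inv_smul_eq_iff.2 (h.cen_fix hcen).symm, hbP]
  have hxx : x • x₀ = x₀ := by
    rw [hx, mul_smul, inv_smul_eq_iff.2 hb'x.symm, hbx]
  have hxodd : Odd (orderOf x) := h.odd_of_fix hP hxP hxx
  have hxu : u * x ≠ 1 := by
    intro e
    have : x = u := by rw [← hui]; exact eq_inv_of_mul_eq_one_right e
    rw [this, hu] at hxodd
    exact absurd hxodd (by decide)
  have hwo : orderOf (u * x) = 2 := orderOf_eq_prime (by
    rw [sq, ← mul_assoc, hxinv, inv_mul_cancel]) hxu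
  obtain ⟨S, hS⟩ := h.exists_fixed_point hu
  have hcS : h.Cen c S := h.cen_of_commute hu hS hcu
  have hcw : Commute c (u * x) :=
    hcu.mul_right ((((Commute.refl b).mul_right hcomm.inv_right)).mul_left
      ((hcomm.symm.mul_right (Commute.refl b').inv_right)))
  obtain ⟨S', hS'⟩ := h.exists_fixed_point hwo
  have hcS' : h.Cen c S' := h.cen_of_commute hwo hS' hcw
  have heq : S = S' := by
    by_contra hne
    exact hc1 (h.ti_eq_one hTI hne hcS hcS')
  subst heq
  have huw : Commute u (u * x) := h.commute_fix hu hwo hS hS'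
  have hxux : Commute u x := by
    have := huw.eq
    exact mul_left_cancel (a := u) (by rw [this, mul_assoc])
  have hx2 : x ^ 2 = 1 := by
    have h2 : u * x * u = x := by rw [hxux.eq, mul_assoc, huu, mul_one]
    rw [hxinv] at h2
    rw [sq]; nth_rw 1 [← h2]; exact inv_mul_cancel x
  exact hx1 (eq_one_of_sq hxodd hx2)

/-- No involution centralizes a non-identity element fixing two points. -/
theorem Data.no_invol_commute {z d : G} (hz : orderOf z = 2) (hc : Commute d z) {P Q : G ⧸ N}
    (hPQ : P ≠ Q) (h1 : d • P = P) (h2 : d • Q = Q) : d = 1 := by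
  obtain ⟨S, hS⟩ := h.exists_fixed_point hz
  have hdS : h.Cen d S := h.cen_of_commute hz hS hc
  obtain ⟨g, rfl⟩ := MulAction.exists_smul_eq G x₀ S
  obtain ⟨R, hR, hRfix⟩ : ∃ R, R ≠ g • x₀ ∧ d • R = R := by
    rcases ne_or_eq P (g • x₀) with e | e
    · exact ⟨P, e, h1⟩
    · exact ⟨Q, fun e' => hPQ (e.trans e'.symm), h2⟩
  have hA : g⁻¹ * d * g ∈ A := by
    have := h.cen_smul g⁻¹ hdS
    rw [inv_smul_smul, inv_inv] at this
    exact h.cen_base.1 this
  have hne : g⁻¹ • R ≠ x₀ := fun e => hR (by rw [← e, smul_inv_smul])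
  have := h.semireg hTI hA hne (by rw [mul_smul, mul_smul, smul_inv_smul, hRfix])
  calc d = g * (g⁻¹ * d * g) * g⁻¹ := by group
    _ = 1 := by rw [this]; group

theorem Data.eq_one_of_mem_inter {d : G} (hd : d ∈ A) {P : G ⧸ N} (hP : P ≠ x₀) (hdP : d • P = P) :
    d = 1 := h.semireg hTI hd hP hdP

/-- A swap of `x₀` and a point fixed by `d` inverts `d`. -/
theorem Data.swap_inverts {d : G} (hd : d ∈ N) {P : G ⧸ N} (hP : P ≠ x₀) (hdP : d • P = P) {v : G}
    (hv : orderOf v = 2) (hvx : v • x₀ = P) : v * d * v = d⁻¹ := by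
  have hmem := h.inverts_mod hP hv hvx
    (fun β hβ hβP => by rw [h.semireg hTI hβ hP hβP]; exact Commute.one_right v) hd hdP
  have hvP : v • P = x₀ := by rw [← hvx, invol_smul_smul hv]
  have hfix : (v * d * v * d) • P = P := by
    rw [mul_smul, mul_smul, mul_smul, hdP, hvP, fixed_one_iff.2 hd, hvx]
  exact eq_inv_of_mul_eq_one_left (h.semireg hTI hmem hP hfix)

/-- A non-identity element of a two-point stabilizer fixes exactly two points. -/
theorem Data.fixed_two {d : G} (hd : d ∈ N) (hd1 : d ≠ 1) {y : G ⧸ N} (hy : y ≠ x₀) (hdy : d • y = y)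
    {P : G ⧸ N} (hdP : d • P = P) : P = x₀ ∨ P = y := by
  by_contra hne
  push Not at hne
  obtain ⟨hPx, hPy⟩ := hne
  obtain ⟨u, hu, hux⟩ := h.exists_swap_to hy
  have huy : u • y = x₀ := by rw [← hux, invol_smul_smul hu]
  have hdx : d • x₀ = x₀ := fixed_one_iff.2 hd
  have hodd : Odd (orderOf d) := h.odd_of_fix hy hdy hdx
  have huu := invol_mul_self hu
  have hswap : ∀ Q : G ⧸ N, Q ≠ x₀ → d • Q = Q → ∀ v : G, orderOf v = 2 → v • x₀ = Q →
      v * d * v = d⁻¹ := fun Q hQ hQd v hv hvx => h.swap_inverts hTI hd hQ hQd hv hvx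
  have hud := hswap y hy hdy u hu hux
  have hud' : u * d⁻¹ * u = d := by
    rw [← hud]
    calc u * (u * d * u) * u = (u * u) * d * (u * u) := by group
      _ = d := by rw [huu]; group
  set C := centralizer ({d} : Set G) with hC
  have horb : ∀ Q : G ⧸ N, Q ≠ x₀ → d • Q = Q → ∃ c ∈ C, c • y = Q := by
    intro Q hQ hQd
    obtain ⟨v, hv, hvx⟩ := h.exists_swap_to hQ
    refine ⟨v * u, ?_, by rw [mul_smul, huy, hvx]⟩
    have hvd := hswap Q hQ hQd v hv hvx
    rw [hC, mem_centralizer_singleton_iff]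
    calc v * u * d = v * (u * d * u) * u := by
          rw [show v * (u * d * u) * u = v * u * d * (u * u) by group, huu, mul_one]
      _ = (v * d⁻¹ * v) * (v * u) := by
          rw [hud, show (v * d⁻¹ * v) * (v * u) = v * d⁻¹ * (v * v) * u by group, invol_mul_self hv]
          group
      _ = d * (v * u) := by
          rw [show v * d⁻¹ * v = d by
            rw [← hvd]
            calc v * (v * d * v) * v = (v * v) * d * (v * v) := by group
              _ = d := by rw [invol_mul_self hv]; group]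
  have huP : d • (u • P) = u • P := by
    calc d • (u • P) = (u * d⁻¹ * u) • u • P := by rw [hud']
      _ = u • P := by rw [mul_smul, mul_smul, invol_smul_smul hu, inv_smul_eq_iff.2 hdP.symm]
  obtain ⟨c₁, hc₁, e₁⟩ := horb P hPx hdP
  obtain ⟨c₂, hc₂, e₂⟩ := horb (u • P) (fun e => hPy (by rw [← hux, ← e, invol_smul_smul hu])) huP
  have huC : ∀ c ∈ C, u * c * u ∈ C := by
    intro c hc
    rw [hC, mem_centralizer_singleton_iff] at hc ⊢
    have hc' : c * d⁻¹ = d⁻¹ * c := ((show Commute c d from hc).inv_right).eq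
    calc u * c * u * d = u * c * (u * d * u) * u := by
          rw [show u * c * (u * d * u) * u = u * c * u * d * (u * u) by group, huu, mul_one]
      _ = u * (c * d⁻¹) * u := by rw [hud]; group
      _ = (u * d⁻¹ * u) * (u * c * u) := by
          rw [hc', show (u * d⁻¹ * u) * (u * c * u) = u * d⁻¹ * (u * u) * c * u by group, huu]; group
      _ = d * (u * c * u) := by rw [hud']
  set c := (u * c₂ * u)⁻¹ * c₁ with hc
  have hcC : c ∈ C := mul_mem (inv_mem (huC _ hc₂)) hc₁
  have hcy : c • y = x₀ := by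
    rw [hc, mul_smul, e₁, inv_smul_eq_iff, mul_smul, mul_smul, hux, e₂, invol_smul_smul hu]
  -- `C` has no involutions
  have hCodd : ∀ z ∈ C, z ^ 2 = 1 → z = 1 := by
    intro z hz hz2
    by_contra hz1
    exact hd1 (h.no_invol_commute hTI (orderOf_eq_prime hz2 hz1)
      (show Commute z d from mem_centralizer_singleton_iff.1 hz).symm hy hdy hdx)
  set g := c * u with hg
  have hgx : g • x₀ = x₀ := by rw [hg, mul_smul, hux, hcy]
  have hg2 : g ^ 2 ∈ C := by
    rw [sq, hg, show c * u * (c * u) = c * (u * c * u) by group]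
    exact mul_mem hcC (huC c hcC)
  have heven : Even (orderOf g) := by
    rw [← Nat.not_odd_iff_even]
    intro ho
    have hgC : g ∈ C := mem_of_sq_mem ho hg2
    have huC' : u ∈ C := by
      have := mul_mem (inv_mem hcC) hgC
      rwa [hg, inv_mul_cancel_left] at this
    have := hCodd u huC' (by rw [sq]; exact huu)
    rw [this, orderOf_one] at hu
    omega
  set k := orderOf g / 2 with hk
  have hzo : orderOf (g ^ k) = 2 := orderOf_pow_half heven
  rcases Nat.even_or_odd k with ⟨j, hj⟩ | ⟨j, hj⟩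
  · have hzC : g ^ k ∈ C := by
      rw [hj, ← two_mul, pow_mul]
      exact pow_mem hg2 j
    have := hCodd _ hzC (by rw [← hzo]; exact pow_orderOf_eq_one _)
    rw [this, orderOf_one] at hzo
    omega
  · have hzx : g ^ k • x₀ = x₀ :=
      MulAction.mem_stabilizer_iff.1 (Subgroup.pow_mem _ (MulAction.mem_stabilizer_iff.2 hgx) k)
    have hmem : (g ^ 2) ^ j * c ∈ C := mul_mem (pow_mem hg2 j) hcC
    have hzd : g ^ k * d * (g ^ k)⁻¹ = d⁻¹ := by
      have hzeq : g ^ k = ((g ^ 2) ^ j * c) * u := by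
        rw [hj, pow_succ, pow_mul, hg]; group
      have hm : ((g ^ 2) ^ j * c) * d⁻¹ = d⁻¹ * ((g ^ 2) ^ j * c) :=
        ((show Commute ((g ^ 2) ^ j * c) d from mem_centralizer_singleton_iff.1 hmem).inv_right).eq
      rw [hzeq, show ((g ^ 2) ^ j * c) * u * d * (((g ^ 2) ^ j * c) * u)⁻¹ =
        ((g ^ 2) ^ j * c) * (u * d * u⁻¹) * ((g ^ 2) ^ j * c)⁻¹ by group,
        inv_eq_of_mul_eq_one_right huu, hud, hm, mul_inv_cancel_right]
    have hzN : g ^ k ∈ N := fixed_one_iff.1 hzx
    have hcom := h.commute_fix (t := d * g ^ k * d⁻¹) (t' := g ^ k) (invol_conj hzo d) hzo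
      (P := x₀) (fixed_one_iff.2 (mul_mem (mul_mem hd hzN) (inv_mem hd))) hzx
    have hzz := invol_mul_self hzo
    have hz' : g ^ k * d⁻¹ * g ^ k = d := by
      have := congrArg (fun z => z⁻¹) hzd
      simp only [mul_inv_rev, inv_inv] at this
      rwa [inv_eq_of_mul_eq_one_right hzz, ← mul_assoc] at this
    have hdd : d * g ^ k * d⁻¹ * g ^ k = d * d := by
      calc d * g ^ k * d⁻¹ * g ^ k = d * (g ^ k * d⁻¹ * g ^ k) := by group
        _ = d * d := by rw [hz']
    have h4 : (d * d) * (d * d) = 1 := by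
      nth_rw 2 [← hdd]
      rw [hcom.eq, ← hdd,
        show d * g ^ k * d⁻¹ * g ^ k * (g ^ k * (d * g ^ k * d⁻¹)) =
          d * g ^ k * d⁻¹ * (g ^ k * g ^ k) * d * g ^ k * d⁻¹ by group,
        hzz, mul_one, show d * g ^ k * d⁻¹ * d * g ^ k * d⁻¹ = d * (g ^ k * g ^ k) * d⁻¹ by group,
        hzz, mul_one, mul_inv_cancel]
    have h5 : d ^ 2 = 1 := eq_one_of_sq (hodd.of_dvd_nat (orderOf_pow_dvd 2)) (by
      rw [sq, sq]; exact h4)
    exact hd1 (eq_one_of_sq hodd h5)

/-- Centralizers in `A` of non-identity two-point elements are trivial. -/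
theorem Data.eq_one_of_commute {d a : G} (hd : d ∈ N) (hd1 : d ≠ 1) {y : G ⧸ N} (hy : y ≠ x₀)
    (hdy : d • y = y) (ha : a ∈ A) (hc : Commute a d) : a = 1 := by
  have hax : a • x₀ = x₀ := fixed_one_iff.2 (centralizer_le_N ha)
  rcases h.fixed_two hTI hd hd1 hy hdy (P := a • y)
    (by rw [← mul_smul, ← hc.eq, mul_smul, hdy]) with e | e
  · exact absurd (smul_left_cancel a (e.trans hax.symm)) hy
  · exact h.semireg hTI ha hy e

/-- `A` is transitive on the points other than the base point. -/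
theorem Data.regular {P Q : G ⧸ N} (hP : P ≠ x₀) (hQ : Q ≠ x₀) : ∃ a ∈ A, a • P = Q := by
  classical
  obtain ⟨d, hd, hdP, hdA⟩ := h.exists_twoPoint hP
  have hd1 : d ≠ 1 := fun e => hdA (e ▸ one_mem _)
  obtain ⟨d', hd', hdQ, a', ha', e⟩ := h.exists_factor hQ hd
  let φ : A → A := fun a =>
    ⟨d⁻¹ * (a : G) * d * (a : G)⁻¹, mul_mem (by
      have := conj_mem_A (inv_mem hd) a.2
      rwa [inv_inv] at this) (inv_mem a.2)⟩
  have hφ : Function.Injective φ := by
    intro a b eab
    have e1 : d⁻¹ * (a : G) * d * (a : G)⁻¹ = d⁻¹ * (b : G) * d * (b : G)⁻¹ := congrArg Subtype.val eab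
    have e2 : (a : G) * d * (a : G)⁻¹ = (b : G) * d * (b : G)⁻¹ := mul_left_cancel (a := d⁻¹)
      (by simpa [mul_assoc] using e1)
    have hc : Commute ((b : G)⁻¹ * a) d := by
      show (b : G)⁻¹ * a * d = d * ((b : G)⁻¹ * a)
      calc (b : G)⁻¹ * a * d = (b : G)⁻¹ * ((a : G) * d * (a : G)⁻¹) * a := by group
        _ = (b : G)⁻¹ * ((b : G) * d * (b : G)⁻¹) * a := by rw [e2]
        _ = d * ((b : G)⁻¹ * a) := by group
    exact Subtype.ext (inv_mul_eq_one.1
      (h.eq_one_of_commute hTI hd hd1 hP hdP (mul_mem (inv_mem b.2) a.2) hc)).symm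
  obtain ⟨a, ha⟩ := (Finite.injective_iff_surjective.1 hφ) ⟨a'⁻¹, inv_mem ha'⟩
  have ha'' : d⁻¹ * (a : G) * d * (a : G)⁻¹ = a'⁻¹ := congrArg Subtype.val ha
  have hconj : (a : G) * d * (a : G)⁻¹ = d' := by
    calc (a : G) * d * (a : G)⁻¹ = d * (d⁻¹ * (a : G) * d * (a : G)⁻¹) := by group
      _ = d' := by rw [ha'', ← e]; group
  have hax : (a : G) • x₀ = x₀ := fixed_one_iff.2 (centralizer_le_N a.2)
  have hfix : d' • ((a : G) • P) = (a : G) • P := by
    rw [← hconj, mul_smul, mul_smul, inv_smul_smul, hdP]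
  have hd'1 : d' ≠ 1 := fun e1 => hdA (by rw [← e, e1, one_mul]; exact ha')
  rcases h.fixed_two hTI hd' hd'1 hQ hdQ hfix with e1 | e1
  · exact absurd (smul_left_cancel (a : G) (e1.trans hax.symm)) hP
  · exact ⟨a, a.2, e1⟩

end CfsgLib.AbCent
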